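import Groth.Agent.TangentFin.Retraction
import Groth.Agent.DefAffHull.Tangent

/-!
# The tangent space of `Def_X` is finite dimensional for proper `X`
-/

set_option autoImplicit false
set_option linter.unusedSectionVars false
set_option backward.isDefEq.respectTransparency false
universe u

open CategoryTheory CategoryTheory.Limits AlgebraicGeometry TopologicalSpace IsLocalRing ArtFun
open MvPolynomial Groth.Agent.DefGlue

namespace Groth.Agent.TangentFin

variable {Λ k : Type u} [CommRing Λ] [Field k] [Algebra Λ k]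
variable {X : Scheme.{u}} {x : X ⟶ Spec (CommRingCat.of k)}

variable (Λ k) in
/-- Constants in `k[ε]`. -/
noncomputable def cD : k →+* Art.dual Λ k := TrivSqZeroExt.inlHom k k

variable (Λ k) in
/-- Constants in `k[ε₁, ε₂]`. -/
noncomputable def cD2 : k →+* Art.dual2 Λ k := TrivSqZeroExt.inlHom k (k × k)

/-- The generators of the maximal ideal of `k[ε₁, ε₂]`. -/
noncomputable def epsD2 (i : Fin 2) : Art.dual2 Λ k :=
  (TrivSqZeroExt.inr (if i = 0 then ((1 : k), (0 : k)) else ((0 : k), (1 : k))) : TrivSqZeroExt k (k × k))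

theorem maximalIdeal_dual : maximalIdeal (Art.dual Λ k) ≤ Ideal.span {DefAffHull.epsD} := fun z hz => by
  refine Ideal.mem_span_singleton'.2 ⟨cD Λ k (TrivSqZeroExt.snd (R := k) z), TrivSqZeroExt.ext ?_ ?_⟩
  · change TrivSqZeroExt.snd (R := k) z * 0 = TrivSqZeroExt.fst (R := k) z
    rw [mul_zero]
    exact ((Art.mem_maximalIdeal_iff _ z).1 hz).symm
  · exact DefAffHull.snd_mul_epsD _

theorem maximalIdeal_dual2 : maximalIdeal (Art.dual2 Λ k) ≤ Ideal.span (Set.range epsD2) := fun z hz => by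
  let s : k × k := TrivSqZeroExt.snd (R := k) z
  refine (Ideal.mem_span_range_iff_exists_fun).2 ⟨![cD2 Λ k s.1, cD2 Λ k s.2], ?_⟩
  rw [Fin.sum_univ_two]
  change (TrivSqZeroExt.inl s.1 : TrivSqZeroExt k (k × k)) * TrivSqZeroExt.inr ((1 : k), (0 : k)) +
    TrivSqZeroExt.inl s.2 * TrivSqZeroExt.inr ((0 : k), (1 : k)) = (z : TrivSqZeroExt k (k × k))
  rw [TrivSqZeroExt.inl_mul_inr, TrivSqZeroExt.inl_mul_inr, ← TrivSqZeroExt.inr_add]
  refine TrivSqZeroExt.ext ((Art.mem_maximalIdeal_iff _ z).1 hz).symm ?_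
  rw [TrivSqZeroExt.snd_inr]
  simp [s]

/-- `z` is `ε` times a lift of `b`. -/
def IsEps (ξ : DefSch X x (Art.dual Λ k)) (W : X.Opens) (z : Γ(ξ.total, img ξ W)) (b : Γ(X, W)) : Prop :=
  ∃ w, z = sHom ξ.f (img ξ W) DefAffHull.epsD * w ∧ red ξ W w = b

theorem exists_ker_sum {A : Art Λ k} {n : ℕ} (e : Fin n → A) (he : maximalIdeal A ≤ Ideal.span (Set.range e))
    (ξ : DefSch X x A) {W : X.Opens} (hW : IsAffineOpen W) {z : Γ(ξ.total, img ξ W)} (hz : red ξ W z = 0) :
    ∃ w : Fin n → Γ(ξ.total, img ξ W), z = ∑ i, sHom ξ.f (img ξ W) (e i) * w i := by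
  letI := (sHom x W).toAlgebra
  have h := (isDef_img ξ hW).ker_le hz
  have h2 := Ideal.map_mono (f := sHom ξ.f (img ξ W)) he h
  rw [Ideal.map_span, ← Set.range_comp, Ideal.mem_span_range_iff_exists_fun] at h2
  obtain ⟨c, rfl⟩ := h2
  exact ⟨c, Finset.sum_congr rfl fun i _ => mul_comm _ _⟩

section eps

variable {ξ : DefSch X x (Art.dual Λ k)} {W : X.Opens}

theorem exists_isEps (hW : IsAffineOpen W) {z : Γ(ξ.total, img ξ W)} (hz : red ξ W z = 0) :
    ∃ b, IsEps ξ W z b := by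
  obtain ⟨w, hw⟩ := exists_ker_sum (fun _ : Fin 1 => DefAffHull.epsD)
    (by rw [Set.range_const]; exact maximalIdeal_dual) ξ hW hz
  exact ⟨_, w 0, by rw [hw, Fin.sum_univ_one], rfl⟩

theorem IsEps.red_eq_zero {z : Γ(ξ.total, img ξ W)} {b} (h : IsEps ξ W z b) : red ξ W z = 0 := by
  obtain ⟨w, rfl, -⟩ := h
  rw [map_mul, red_sHom, show (Art.dual Λ k).res DefAffHull.epsD = (0 : k) from rfl, map_zero, zero_mul]

theorem IsEps.add {z z' : Γ(ξ.total, img ξ W)} {b b'} (h : IsEps ξ W z b) (h' : IsEps ξ W z' b') :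
    IsEps ξ W (z + z') (b + b') := by
  obtain ⟨w, rfl, rfl⟩ := h
  obtain ⟨w', rfl, rfl⟩ := h'
  exact ⟨w + w', (mul_add _ _ _).symm, map_add _ _ _⟩

theorem IsEps.mul {z : Γ(ξ.total, img ξ W)} {b} (m : Γ(ξ.total, img ξ W)) (h : IsEps ξ W z b) :
    IsEps ξ W (m * z) (red ξ W m * b) := by
  obtain ⟨w, rfl, rfl⟩ := h
  exact ⟨m * w, by ring, map_mul _ _ _⟩

theorem isEps_zero : IsEps ξ W 0 0 := ⟨0, (mul_zero _).symm, map_zero _⟩

theorem IsEps.sum {ι : Type*} (s : Finset ι) {z : ι → Γ(ξ.total, img ξ W)} {b : ι → Γ(X, W)}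
    (h : ∀ i, IsEps ξ W (z i) (b i)) : IsEps ξ W (∑ i ∈ s, z i) (∑ i ∈ s, b i) := by
  induction s using Finset.cons_induction with
  | empty => exact isEps_zero
  | cons a s ha ih =>
    rw [Finset.sum_cons, Finset.sum_cons]
    exact (h a).add ih

theorem IsEps.neg {z : Γ(ξ.total, img ξ W)} {b} (h : IsEps ξ W z b) : IsEps ξ W (-z) (-b) := by
  obtain ⟨w, rfl, rfl⟩ := h
  exact ⟨-w, (mul_neg _ _).symm, map_neg _ _⟩

theorem IsEps.res {W' : X.Opens} (h' : W' ≤ W) {z : Γ(ξ.total, img ξ W)} {b} (h : IsEps ξ W z b) :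
    IsEps ξ W' (ξ.total.presheaf.map (homOfLE (img_mono ξ h')).op z) (X.presheaf.map (homOfLE h').op b) := by
  obtain ⟨w, rfl, rfl⟩ := h
  exact ⟨_, by rw [map_mul, res_sHom'], red_res ξ h' w⟩

theorem IsEps.unique (hW : IsAffineOpen W) {z : Γ(ξ.total, img ξ W)} {b b'} (h : IsEps ξ W z b)
    (h' : IsEps ξ W z b') : b = b' := by
  letI := (sHom x W).toAlgebra
  obtain ⟨w, rfl, rfl⟩ := h
  obtain ⟨w', hw, rfl⟩ := h'
  have hD := isDef_img ξ hW
  have hne : (DefAffHull.epsD : Art.dual Λ k) ∉ (⊥ : Ideal (Art.dual Λ k)) := fun he =>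
    one_ne_zero (α := k) (congrArg (TrivSqZeroExt.snd (R := k)) (Ideal.mem_bot.1 he))
  have h0 : w - w' ∈ (maximalIdeal (Art.dual Λ k)).map (sHom ξ.f (img ξ W)) := by
    refine DefAut.mem_map_of_mul_mem hD.flat hne ?_
    rw [Ideal.map_bot, Ideal.mem_bot, mul_sub, hw, sub_self]
  have h1 : red ξ W (w - w') = 0 := by
    refine (Ideal.map_le_iff_le_comap.2 (fun a ha => ?_) h0 : w - w' ∈ RingHom.ker (red ξ W))
    rw [Ideal.mem_comap, RingHom.mem_ker, red_sHom, (Art.mem_maximalIdeal_iff _ a).1 ha, map_zero]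
  rwa [map_sub, sub_eq_zero] at h1

theorem IsEps.eq_zero (hW : IsAffineOpen W) {z : Γ(ξ.total, img ξ W)} (h : IsEps ξ W z 0) : z = 0 := by
  obtain ⟨w, rfl, hw⟩ := h
  obtain ⟨w', hw'⟩ := exists_isEps hW hw
  obtain ⟨u, rfl, -⟩ := hw'
  rw [← mul_assoc, ← map_mul, show (DefAffHull.epsD : Art.dual Λ k) * DefAffHull.epsD = 0 from
    DualNumber.eps_mul_eps, map_zero, zero_mul]

end eps

namespace Pres

variable (D : Pres x)

/-- Families of values on generators. -/
abbrev Fam : Type u := ∀ a : D.Gen, Γ(X, D.UT a.1)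

/-- The boundary of a vector field. -/
noncomputable def bd (v : ∀ p : D.Crd, Γ(X, D.UT p.1)) : D.Fam := fun a =>
  dv (D.ev a.1) (fun p => X.presheaf.map (homOfLE (D.UT_anti p.2)).op (v p.1)) (D.G a)

theorem res_cD (c : k) : (Art.dual Λ k).res (cD Λ k c) = c := rfl

/-- `φ` is the data of `ξ` for the lifts `y`. -/
def IsData {ξ : DefSch X x (Art.dual Λ k)} (y : D.Lifts ξ) (φ : D.Fam) : Prop :=
  ∀ a : D.Gen, IsEps ξ (D.UT a.1) (lev (cD Λ k) y a.1 (D.G a)) (φ a)

theorem exists_isData {ξ : DefSch X x (Art.dual Λ k)} (y : D.Lifts ξ) : ∃ φ, D.IsData y φ := by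
  choose φ hφ using fun a : D.Gen => exists_isEps (ξ := ξ) (D.affine _ a.1.2)
    (show red ξ (D.UT a.1) (lev (cD Λ k) y a.1 (D.G a)) = 0 by rw [red_lev (cD Λ k) res_cD, ev_G])
  exact ⟨φ, hφ⟩

theorem data_change {ξ : DefSch X x (Art.dual Λ k)} {y y' : D.Lifts ξ} {φ φ' : D.Fam} (h : D.IsData y φ)
    (h' : D.IsData y' φ') {v : ∀ p : D.Crd, Γ(X, D.UT p.1)}
    (hv : ∀ p : D.Crd, IsEps ξ (D.UT p.1) (y'.1 p - y.1 p) (v p)) : φ' = φ + D.bd v := by
  funext a
  have hW := D.affine _ a.1.2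
  let L := lev (cD Λ k) y a.1
  let L' := lev (cD Λ k) y' a.1
  choose δ hδ using fun r => exists_isEps (ξ := ξ) (W := D.UT a.1) hW (z := L' r - L r)
    (by rw [map_sub, red_lev (cD Λ k) res_cD, red_lev (cD Λ k) res_cD, sub_self])
  have hd : ∀ r, δ r = dv (D.ev a.1) (fun p => X.presheaf.map (homOfLE (D.UT_anti p.2)).op (v p.1)) r :=
    eq_dv_of_der (fun r s => (hδ (r + s)).unique hW (by
        have := (hδ r).add (hδ s)
        convert this using 1
        rw [map_add, map_add]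
        abel))
      (fun r s => (hδ (r * s)).unique hW (by
        have h1 := ((hδ s).mul (L' r)).add ((hδ r).mul (L s))
        rw [red_lev (cD Λ k) res_cD, red_lev (cD Λ k) res_cD] at h1
        convert h1 using 1
        rw [map_mul, map_mul]
        ring))
      (fun c => (hδ (MvPolynomial.C c)).unique hW (by
        convert isEps_zero (ξ := ξ) (W := D.UT a.1) using 1
        rw [sub_eq_zero]
        exact (eval₂Hom_C _ _ _).trans (eval₂Hom_C _ _ _).symm))
      (fun p => (hδ (MvPolynomial.X p)).unique hW (by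
        convert (hv p.1).res (D.UT_anti p.2) using 1
        rw [map_sub]
        exact congrArg₂ (· - ·) (eval₂Hom_X' _ _ _) (eval₂Hom_X' _ _ _)))
  refine (h' a).unique hW ?_
  have h2 := (h a).add (hd (D.G a) ▸ hδ (D.G a))
  rw [add_sub_cancel] at h2
  exact h2

theorem exists_change {ξ : DefSch X x (Art.dual Λ k)} {y y' : D.Lifts ξ} {φ φ' : D.Fam} (h : D.IsData y φ)
    (h' : D.IsData y' φ') : ∃ v, φ' = φ + D.bd v := by
  choose v hv using fun p : D.Crd => exists_isEps (ξ := ξ) (W := D.UT p.1) (D.affine _ p.1.2)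
    (z := y'.1 p - y.1 p) (by rw [map_sub, y.2 p, y'.2 p, sub_self])
  exact ⟨v, D.data_change h h' hv⟩

theorem exists_pushed {A : Art Λ k} (ι₀ : k →+* A) {η : DefSch X x (Art.dual Λ k)} {ξ : DefSch X x A}
    {g : A ⟶ Art.dual Λ k} (ψ : Over g η ξ) (hg : ∀ c, g (ι₀ c) = cD Λ k c) {n : ℕ} (e : Fin n → A)
    (l : Fin n → k) (he : ∀ i, g (e i) = cD Λ k (l i) * DefAffHull.epsD)
    (y : D.Lifts ξ) {w : ∀ a : D.Gen, Fin n → Γ(ξ.total, img ξ (D.UT a.1))}
    (hw : ∀ a, lev ι₀ y a.1 (D.G a) = ∑ i, sHom ξ.f (img ξ (D.UT a.1)) (e i) * w a i) :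
    ∃ y' : D.Lifts η, D.IsData y' fun a => ∑ i, sHom x (D.UT a.1) (l i) * red ξ (D.UT a.1) (w a i) := by
  let P : ∀ W : X.Opens, Γ(ξ.total, img ξ W) →+* Γ(η.total, img η W) := fun W =>
    (ψ.map.appLE _ _ (over_img ψ W)).hom
  let y' : D.Lifts η := ⟨fun p => P _ (y.1 p), fun p => (red_over ψ _ _).trans (y.2 p)⟩
  have hlev : ∀ t r, lev (cD Λ k) y' t r = P _ (lev ι₀ y t r) := fun t r => by
    induction r using MvPolynomial.induction_on with
    | C c =>
      simp only [lev, eval₂Hom_C, RingHom.comp_apply]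
      exact ((ψ.appLE_sHom _ _ _ (ι₀ c)).trans (congrArg _ (hg c))).symm
    | add a b ha hb => simp only [map_add, ha, hb]
    | mul_X a p ha =>
      simp only [map_mul, ha]
      congr 1
      simp only [lev, eval₂Hom_X']
      change η.total.presheaf.map _ (ψ.map.appLE _ _ _ _) = ψ.map.appLE _ _ _ (ξ.total.presheaf.map _ _)
      rw [← ConcreteCategory.comp_apply, ← ConcreteCategory.comp_apply, Scheme.Hom.map_appLE,
        Scheme.Hom.appLE_map]
  refine ⟨y', fun a => ?_⟩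
  rw [hlev, hw, map_sum]
  refine IsEps.sum _ fun i => ⟨sHom η.f _ (cD Λ k (l i)) * P _ (w a i), ?_, ?_⟩
  · rw [map_mul, show P _ (sHom ξ.f (img ξ (D.UT a.1)) (e i)) = sHom η.f _ (g (e i)) from
      ψ.appLE_sHom _ _ _ (e i), he, map_mul]
    ring
  · rw [map_mul, red_sHom, res_cD]
    exact congrArg _ (red_over ψ _ _)

theorem cycle {ξ : DefSch X x (Art.dual Λ k)} {y : D.Lifts ξ} {φ : D.Fam} (h : D.IsData y φ) (b : D.Rel) :
    ∑ a, D.ev b.1 (D.rel b a) * X.presheaf.map (homOfLE (D.UT_anti a.2)).op (φ a.1) = 0 := by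
  have hrel : Fintype.linearCombination (MvPolynomial (D.Vs b.1) k) (D.gAt b.1) (D.rel b) = 0 :=
    LinearMap.mem_ker.1 ((D.fg_rel b.1).choose_spec.choose_spec ▸ Submodule.subset_span ⟨b.2, rfl⟩)
  have h1 := IsEps.sum Finset.univ fun a : D.At b.1 =>
    ((h a.1).res (D.UT_anti a.2)).mul (lev (cD Λ k) y b.1 (D.rel b a))
  simp only [red_lev (cD Λ k) res_cD] at h1
  have h0 : ∑ a : D.At b.1, lev (cD Λ k) y b.1 (D.rel b a) *
      ξ.total.presheaf.map (homOfLE (img_mono ξ (D.UT_anti a.2))).op (lev (cD Λ k) y a.1.1 (D.G a.1)) = 0 := by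
    have h2 := congrArg (lev (cD Λ k) y b.1) hrel
    rw [map_zero, Fintype.linearCombination_apply, map_sum] at h2
    refine (Finset.sum_congr rfl fun a _ => ?_).trans h2
    rw [smul_eq_mul, map_mul, gAt, lev_rename]
  rw [h0] at h1
  exact h1.unique (D.affine _ b.1.2) isEps_zero

end Pres

section Finite

open Pres

theorem hfin_defFunctor [IsProper x] [TangentStr (defFunctor (Λ := Λ) X x)] :
    Hfin (defFunctor (Λ := Λ) X x) := by
  obtain ⟨D⟩ := exists_pres x
  letI : ∀ a : D.Gen, Module k Γ(X, D.UT a.1) := fun a => (sHom x (D.UT a.1)).toAlgebra.toModule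
  have hsmul : ∀ (c : k) (φ : D.Fam) (a : D.Gen), (c • φ) a = sHom x (D.UT a.1) c * φ a :=
    fun _ _ _ => rfl
  let Bd : Submodule k D.Fam :=
    { carrier := Set.range D.bd
      zero_mem' := ⟨0, funext fun a => by simp [Pres.bd, dv]⟩
      add_mem' := by
        rintro _ _ ⟨v, rfl⟩ ⟨w, rfl⟩
        refine ⟨v + w, funext fun a => ?_⟩
        rw [Pi.add_apply, Pres.bd, Pres.bd, Pres.bd, ← dv_add_right]
        exact congrArg (fun f => dv _ f _) (funext fun p => map_add _ _ _)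
      smul_mem' := by
        rintro c _ ⟨v, rfl⟩
        refine ⟨fun p => sHom x (D.UT p.1) c * v p, funext fun a => ?_⟩
        rw [hsmul]
        simp only [Pres.bd, dv, Finset.mul_sum, map_mul, Pres.res_sHom]
        exact Finset.sum_congr rfl fun p _ => by ring }
  have hwd : ∀ {ξ : DefSch X x (Art.dual Λ k)} {y y' : D.Lifts ξ} {φ φ' : D.Fam}, D.IsData y φ →
      D.IsData y' φ' → Bd.mkQ φ' = Bd.mkQ φ := fun {ξ y y' φ φ'} h h' => by
    obtain ⟨v, rfl⟩ := D.exists_change h h'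
    rw [map_add, (Submodule.Quotient.mk_eq_zero Bd).2 ⟨v, rfl⟩ |> fun e => (show Bd.mkQ (D.bd v) = 0 from e), add_zero]
  -- classes
  let Ψ₀ : DefSch X x (Art.dual Λ k) → D.Fam ⧸ Bd := fun ξ =>
    Bd.mkQ (D.exists_isData (D.nonempty_lifts ξ).some).choose
  have hΨ₀ : ∀ {ξ : DefSch X x (Art.dual Λ k)} {y : D.Lifts ξ} {φ : D.Fam}, D.IsData y φ →
      Ψ₀ ξ = Bd.mkQ φ := fun {ξ y φ} h => hwd h (D.exists_isData (D.nonempty_lifts ξ).some).choose_spec
  have hpush : ∀ {A : Art Λ k} (ι₀ : k →+* A), (∀ c, A.res (ι₀ c) = c) → ∀ {n : ℕ} (e : Fin n → A),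
      maximalIdeal A ≤ Ideal.span (Set.range e) → ∀ (ξ : DefSch X x A), ∃ b : Fin n → D.Fam,
      ∀ {η : DefSch X x (Art.dual Λ k)} {g : A ⟶ Art.dual Λ k} (_ : Over g η ξ) (l : Fin n → k),
        (∀ c, g (ι₀ c) = cD Λ k c) → (∀ i, g (e i) = cD Λ k (l i) * DefAffHull.epsD) →
          Ψ₀ η = Bd.mkQ (∑ i, l i • b i) := by
    intro A ι₀ hι n e he ξ
    obtain ⟨y⟩ := D.nonempty_lifts ξ
    choose w hw using fun a : D.Gen => exists_ker_sum e he ξ (D.affine _ a.1.2)
      (show red ξ (D.UT a.1) (lev ι₀ y a.1 (D.G a)) = 0 by rw [red_lev ι₀ hι, ev_G])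
    refine ⟨fun i a => red ξ (D.UT a.1) (w a i), fun {η g} ψ l hg hl => ?_⟩
    obtain ⟨y', hy'⟩ := D.exists_pushed ι₀ ψ hg e l hl y hw
    refine (hΨ₀ hy').trans (congrArg Bd.mkQ (funext fun a => ?_))
    rw [Finset.sum_apply]
    rfl
  let Ψ : (defFunctor (Λ := Λ) X x).obj (Art.dual Λ k) → D.Fam ⧸ Bd := Quotient.lift Ψ₀ (by
    intro η ξ ⟨θ⟩
    obtain ⟨b, hb⟩ := hpush (cD Λ k) res_cD (fun _ : Fin 1 => DefAffHull.epsD)
      (by rw [Set.range_const]; exact maximalIdeal_dual) ξ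
    have h1 := hb (η := η) (g := 𝟙 _)
      ⟨θ.iso.hom, by rw [θ.hom_f, Art.specMap_id, Category.comp_id], θ.i_hom⟩ (fun _ => 1)
      (fun _ => rfl) (fun _ => by rw [map_one, one_mul]; rfl)
    have h2 := hb (η := ξ) (g := 𝟙 _)
      ⟨𝟙 _, by rw [Category.id_comp, Art.specMap_id, Category.comp_id], Category.comp_id _⟩ (fun _ => 1)
      (fun _ => rfl) (fun _ => by rw [map_one, one_mul]; rfl)
    exact h1.trans h2.symm)
  have hΨs : ∀ (c : k) z, Ψ ((defFunctor (Λ := Λ) X x).map (Art.scale c) z) = c • Ψ z := by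
    intro c z
    induction z using Quotient.inductionOn with | h ξ => ?_
    obtain ⟨b, hb⟩ := hpush (cD Λ k) res_cD (fun _ : Fin 1 => DefAffHull.epsD)
      (by rw [Set.range_const]; exact maximalIdeal_dual) ξ
    have h1 := hb (Over.taut ξ (Art.scale c)) (fun _ => c)
      (fun a => TrivSqZeroExt.ext rfl (by change c * 0 = 0; rw [mul_zero]))
      (fun _ => TrivSqZeroExt.ext (by change (0 : k) = c * 0; rw [mul_zero]) (by
        refine Eq.trans ?_ (DefAffHull.snd_mul_epsD _).symm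
        change c * 1 = c
        rw [mul_one]))
    have h2 := hb (η := ξ) (g := 𝟙 _)
      ⟨𝟙 _, by rw [Category.id_comp, Art.specMap_id, Category.comp_id], Category.comp_id _⟩ (fun _ => 1)
      (fun _ => rfl) (fun _ => by rw [map_one, one_mul]; rfl)
    change Ψ₀ _ = c • Ψ₀ ξ
    rw [h1, h2, ← map_smul, Fin.sum_univ_one, Fin.sum_univ_one, one_smul]
  have hΨa : ∀ z₁ z₂ : TangentSpace (defFunctor (Λ := Λ) X x), Ψ (z₁ + z₂) = Ψ z₁ + Ψ z₂ := by
    intro z₁ z₂
    obtain ⟨z, rfl, rfl⟩ := ArtFunLib.exists_pair (DefGlue.h0 x) (DefGlue.heps x) z₁ z₂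
    rw [show ((show TangentSpace (defFunctor (Λ := Λ) X x) from (defFunctor (Λ := Λ) X x).map Art.pr₁ z) +
      (show TangentSpace (defFunctor (Λ := Λ) X x) from (defFunctor (Λ := Λ) X x).map Art.pr₂ z)) =
      (defFunctor (Λ := Λ) X x).map Art.plus z from TangentStr.add_eq z]
    induction z using Quotient.inductionOn with | h ξ => ?_
    obtain ⟨b, hb⟩ := hpush (cD2 Λ k) (fun _ => rfl) epsD2 maximalIdeal_dual2 ξ
    have hc : ∀ (l : k × k →ₗ[k] k) (c : k),
        (ArtFunLib.t2 (Λ := Λ) l) (cD2 Λ k c) = cD Λ k c := fun l c =>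
      TrivSqZeroExt.ext rfl (by change l 0 = 0; rw [map_zero])
    have he : ∀ (l : k × k →ₗ[k] k) (i : Fin 2), (ArtFunLib.t2 (Λ := Λ) l) (epsD2 i) =
        cD Λ k (l (if i = 0 then ((1 : k), (0 : k)) else ((0 : k), (1 : k)))) * DefAffHull.epsD := fun l i =>
      TrivSqZeroExt.ext (by change (0 : k) = _ * 0; rw [mul_zero]) (by
        refine Eq.trans ?_ (DefAffHull.snd_mul_epsD _).symm
        rfl)
    have hp := hb (Over.taut ξ (ArtFunLib.t2 (LinearMap.fst k k k))) _ (hc _) (he _)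
    have hq := hb (Over.taut ξ (ArtFunLib.t2 (LinearMap.snd k k k))) _ (hc _) (he _)
    have hs := hb (Over.taut ξ (ArtFunLib.t2 (LinearMap.fst k k k + LinearMap.snd k k k))) _ (hc _) (he _)
    change Ψ₀ (ξ.baseChange Art.plus) = Ψ₀ (ξ.baseChange Art.pr₁) + Ψ₀ (ξ.baseChange Art.pr₂)
    refine hs.trans ((Eq.trans ?_ (map_add Bd.mkQ _ _)).trans (congrArg₂ (· + ·) hp.symm hq.symm))
    congr 1
    rw [← Finset.sum_add_distrib]
    exact Finset.sum_congr rfl fun i _ => by rw [LinearMap.add_apply, add_smul]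
  let L : TangentSpace (defFunctor (Λ := Λ) X x) →ₗ[k] D.Fam ⧸ Bd :=
    { toFun := Ψ
      map_add' := hΨa
      map_smul' := fun c z => by
        rw [show (c • z : TangentSpace (defFunctor (Λ := Λ) X x)) =
          (defFunctor (Λ := Λ) X x).map (Art.scale c) z from TangentStr.smul_eq c z]
        exact hΨs c z }
  have hinj : Function.Injective L := by
    have hx : Flat x := DefGlue.flat_str x
    have key : ∀ z, L z = 0 →
        z = ((DefSch.self X x hx).baseChange (Art.baseToDual (Λ := Λ))).cl := by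
      intro z hz
      induction z using Quotient.inductionOn with | h ξ => ?_
      obtain ⟨y⟩ := D.nonempty_lifts ξ
      obtain ⟨φ, hφ⟩ := D.exists_isData y
      have h1 : Bd.mkQ φ = 0 := (hΨ₀ hφ).symm.trans hz
      obtain ⟨v, hv⟩ := (Submodule.Quotient.mk_eq_zero Bd).1 h1
      choose w hw using fun p : D.Crd => red_surjective ξ (D.affine _ p.1.2) (v p)
      let y' : D.Lifts ξ := ⟨fun p => y.1 p + -(sHom ξ.f (img ξ (D.UT p.1)) DefAffHull.epsD * w p),
        fun p => by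
          rw [map_add, map_neg, map_mul, red_sHom, show (Art.dual Λ k).res DefAffHull.epsD = (0 : k) from rfl,
            map_zero, zero_mul, neg_zero, add_zero]
          exact y.2 p⟩
      obtain ⟨φ', hφ'⟩ := D.exists_isData y'
      have h2 := D.data_change hφ hφ' (v := fun p => -(v p)) fun p => by
        change IsEps ξ _ (y.1 p + -(sHom ξ.f (img ξ (D.UT p.1)) DefAffHull.epsD * w p) - y.1 p) _
        rw [add_sub_cancel_left]
        exact IsEps.neg ⟨w p, rfl, hw p⟩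
      have h3 : φ' = 0 := by
        rw [h2, ← hv]
        funext a
        simp [Pres.bd, dv]
      subst h3
      obtain ⟨ψ⟩ := nonempty_over_self (Art.baseToDual (Λ := Λ)) hx (cD Λ k) res_cD (fun c => rfl) y'
        fun a => (hφ' a).eq_zero (D.affine _ a.1.2)
      exact Quotient.sound ⟨ψ.iso⟩
    intro z z' hzz
    exact sub_eq_zero.1 ((key _ (by rw [map_sub, hzz, sub_self])).trans (key 0 (map_zero L)).symm)
  obtain ⟨n, e, -, hspan⟩ := D.exists_spanning'
  let e' : Fin n → D.Fam := fun i a =>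
    X.presheaf.map (homOfLE (le_inf le_top le_rfl : D.UT a.1 ≤ ⊤ ⊓ D.UT a.1)).op (e i a)
  have hrange : LinearMap.range L ≤ Submodule.span k (Set.range fun i => Bd.mkQ (e' i)) := by
    rintro _ ⟨z, rfl⟩
    induction z using Quotient.inductionOn with | h ξ => ?_
    obtain ⟨y⟩ := D.nonempty_lifts ξ
    obtain ⟨φ, hφ⟩ := D.exists_isData y
    let φT : Sect (fun a : D.Gen => D.UT a.1) ⊤ := fun a =>
      X.presheaf.map (homOfLE (inf_le_right : (⊤ : X.Opens) ⊓ D.UT a.1 ≤ D.UT a.1)).op (φ a)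
    obtain ⟨c, v, hcv⟩ := hspan φT (funext fun b => by
      have h1 := congrArg (X.presheaf.map (homOfLE (inf_le_right : (⊤ : X.Opens) ⊓ D.UT b.1 ≤ D.UT b.1)).op)
        (D.cycle hφ b)
      rw [map_sum, map_zero] at h1
      refine Eq.trans (Finset.sum_congr rfl fun a _ => ?_) h1
      rw [map_mul, res_res]
      congr 1
      exact (res_res _ _ (φ a.1)).symm)
    let v' : ∀ p : D.Crd, Γ(X, D.UT p.1) := fun p =>
      X.presheaf.map (homOfLE (le_inf le_top le_rfl : D.UT p.1 ≤ ⊤ ⊓ D.UT p.1)).op (v p)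
    have hφv : φ = ∑ i, c i • e' i + D.bd v' := by
      funext a
      have h1 := congrArg (X.presheaf.map (homOfLE (le_inf le_top le_rfl : D.UT a.1 ≤ ⊤ ⊓ D.UT a.1)).op)
        (congrFun hcv a)
      rw [res_res, res_self, map_add, map_sum] at h1
      rw [h1, Pi.add_apply, Finset.sum_apply]
      congr 1
      · refine Finset.sum_congr rfl fun i _ => ?_
        rw [hsmul, map_mul, Pres.res_sHom]
      · rw [D.d₀_sect, map_dv]
        simp only [Pres.bd]
        congr 1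
        · refine RingHom.ext fun r => ?_
          exact (res_res _ _ _).trans (res_self _ _)
        · funext p
          exact (res_res _ _ _).trans (res_res _ _ _).symm
    change Ψ₀ ξ ∈ _
    rw [hΨ₀ hφ, hφv, map_add, show Bd.mkQ (D.bd v') = 0 from (Submodule.Quotient.mk_eq_zero Bd).2 ⟨v', rfl⟩,
      add_zero, map_sum]
    refine Submodule.sum_mem _ fun i _ => ?_
    rw [map_smul]
    exact Submodule.smul_mem _ _ (Submodule.subset_span ⟨i, rfl⟩)
  haveI : Module.Finite k (Submodule.span k (Set.range fun i => Bd.mkQ (e' i))) :=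
    Module.Finite.span_of_finite k (Set.finite_range _)
  exact Module.Finite.of_injective (LinearMap.codRestrict _ L fun z => hrange ⟨z, rfl⟩)
    fun a b h => hinj (congrArg Subtype.val h)

end Finite

end Groth.Agent.TangentFin
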