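import Groth.Agent.TangentFin.Prod
import Groth.Agent.CohFinite.ProperFinite
import Groth.Agent.CohVanish.Sections
import Mathlib.AlgebraicGeometry.Morphisms.Proper

/-!
# Finiteness of the homology of a three-term complex of product sheaves over a proper scheme
-/

set_option autoImplicit false
set_option linter.unusedSectionVars false
set_option backward.isDefEq.respectTransparency false
universe u

open CategoryTheory CategoryTheory.Limits AlgebraicGeometry TopologicalSpace Opposite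
open Groth.Agent.QCohLib Groth.Agent.CohFinite Groth.Agent.CohVanish Groth.Agent.CechCmp
open scoped Groth.Agent.CohVanish

namespace Groth.Agent.TangentFin

variable {k : Type u} [Field k] {X : Scheme.{u}} (x : X ⟶ Spec (CommRingCat.of k))

/-- Global sections of the cohomology in degree zero. -/
noncomputable def h0Equiv (M : X.Modules) :
    HMod (modRSh (Coh.toGlobal x) M) ⊤ 0 ≃+ Γ(M, ⊤) :=
  eu0 (X := sp X) ⊤ (Coh.toAb M)

theorem h0Equiv_smul (M : X.Modules) (c : k) (z : HMod (modRSh (Coh.toGlobal x) M) ⊤ 0) :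
    h0Equiv x M (c • z) = (show Γ(X, ⊤) from Coh.toGlobal x c) • h0Equiv x M z := by
  refine (eu0_eMap (X := sp X) (Coh.smulAb M (Coh.toGlobal x c)) ⊤ z).trans ?_
  refine (Coh.smulAb_app M _ (op ⊤) _).trans ?_
  exact congrArg (fun r : Γ(X, ⊤) => r • h0Equiv x M z)
    (res_self (le_refl (⊤ : X.Opens)) (show Γ(X, ⊤) from Coh.toGlobal x c))

theorem h0Equiv_map {M N : X.Modules} (f : M ⟶ N) (z : HMod (modRSh (Coh.toGlobal x) M) ⊤ 0) :
    h0Equiv x N (mapHMod (modHom (Coh.toGlobal x) f) ⊤ 0 z) = f.app ⊤ (h0Equiv x M z) :=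
  eu0_eMap (X := sp X) ((toAbF X).map f) ⊤ z

theorem finite_sections_of_sel {α : Type u} [Finite α] (U : α → X.Opens) (W : X.Opens)
    [IsNoetherianRing Γ(X, W)] {N : Type u} [AddCommGroup N] [Module Γ(X, W) N]
    (L : Submodule Γ(X, W) Γ(prodMod U, W)) (π : L →ₗ[Γ(X, W)] N)
    (h : ∀ z : L, (∀ a, W ≤ U a → ((z : Γ(prodMod U, W)) : Sect U W) a = 0) → π z = 0) :
    Module.Finite Γ(X, W) (LinearMap.range π) := by
  classical
  cases nonempty_fintype α
  let sel : L →ₗ[Γ(X, W)] ({a : α // W ≤ U a} → Γ(X, W)) :=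
    { toFun := fun z a => X.presheaf.map (homOfLE (le_inf le_rfl a.2 : W ≤ W ⊓ U a.1)).op
        (((z : Γ(prodMod U, W)) : Sect U W) a.1)
      map_add' := fun y z => funext fun a =>
        map_add (X.presheaf.map (homOfLE (le_inf le_rfl a.2 : W ≤ W ⊓ U a.1)).op).hom
          (((y : Γ(prodMod U, W)) : Sect U W) a.1) (((z : Γ(prodMod U, W)) : Sect U W) a.1)
      map_smul' := fun r z => funext fun a => by
        change X.presheaf.map (homOfLE (le_inf le_rfl a.2 : W ≤ W ⊓ U a.1)).op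
          (X.presheaf.map (homOfLE (inf_le_left : W ⊓ U a.1 ≤ W)).op r *
            ((z : Γ(prodMod U, W)) : Sect U W) a.1) = r * _
        rw [map_mul, res_res, res_self] }
  have hker : LinearMap.ker sel ≤ LinearMap.ker π := fun z hz => h z fun a ha => by
    have h1 : X.presheaf.map (homOfLE (le_inf le_rfl ha : W ≤ W ⊓ U a)).op
        (((z : Γ(prodMod U, W)) : Sect U W) a) = 0 :=
      congrFun (show sel z = 0 from hz) (⟨a, ha⟩ : {a : α // W ≤ U a})
    have h2 := congrArg (X.presheaf.map (homOfLE (inf_le_left : W ⊓ U a ≤ W)).op) h1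
    rw [map_zero, res_res, res_self] at h2
    exact h2
  haveI : IsNoetherian Γ(X, W) ({a : α // W ≤ U a} → Γ(X, W)) := inferInstance
  haveI : Module.Finite Γ(X, W) (L ⧸ LinearMap.ker sel) :=
    Module.Finite.equiv sel.quotKerEquivRange.symm
  refine Module.Finite.of_surjective ((LinearMap.ker sel).liftQ π.rangeRestrict
    (fun z hz => Subtype.ext (hker hz))) fun w => ?_
  obtain ⟨z, hz⟩ := π.surjective_rangeRestrict w
  exact ⟨Submodule.Quotient.mk z, hz⟩

variable {α β γ : Type u} [Finite α] [Finite β] [Finite γ]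
variable {U₀ : α → X.Opens} {U₁ : β → X.Opens} {U₂ : γ → X.Opens}
variable (d₀ : Mat U₀ U₁) (d₁ : Mat U₁ U₂) {ι : Type u} (Ω : ι → X.affineOpens)

/-- The homology of global sections is finite dimensional. -/
theorem exists_spanning [IsProper x]
    (hU₀ : ∀ a, IsAffineOpen (U₀ a)) (hU₁ : ∀ b, IsAffineOpen (U₁ b)) (hU₂ : ∀ c, IsAffineOpen (U₂ c))
    [IsAffineHom (pullback.diagonal (terminal.from X))]
    (hzero : ∀ (W : X.Opens) v, d₁.sect W (d₀.sect W v) = 0)
    (hcov : ∀ p : X, ∃ l, p ∈ (Ω l).1)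
    (h₀ : ∀ l (v : Sect U₀ (Ω l).1), d₀.sect _ v = 0 → (∀ a, (Ω l).1 ≤ U₀ a → v a = 0) → v = 0)
    (h₁ : ∀ l (φ : Sect U₁ (Ω l).1), d₁.sect _ φ = 0 → (∀ b, (Ω l).1 ≤ U₁ b → φ b = 0) →
      ∃ v, d₀.sect _ v = φ) :
    ∃ (n : ℕ) (e : Fin n → Sect U₁ ⊤), (∀ i, d₁.sect ⊤ (e i) = 0) ∧
      ∀ φ : Sect U₁ ⊤, d₁.sect ⊤ φ = 0 → ∃ (c : Fin n → k) (v : Sect U₀ ⊤),
        (∑ i, (show Γ(X, ⊤) from Coh.toGlobal x (c i)) • (show Γ(prodMod U₁, ⊤) from e i) :
            Γ(prodMod U₁, ⊤)) + d₀.hom.app ⊤ v = φ := by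
  haveI : IsLocallyNoetherian X := LocallyOfFiniteType.isLocallyNoetherian x
  haveI := isQuasicoherent_prodMod U₀ hU₀
  haveI := isQuasicoherent_prodMod U₁ hU₁
  haveI := isQuasicoherent_prodMod U₂ hU₂
  have hcomp : d₀.hom ≫ d₁.hom = 0 := by
    refine Scheme.Modules.hom_ext _ _ fun W => ?_
    ext v
    exact hzero W v
  let K : X.Modules := kernel d₁.hom
  haveI : K.IsQuasicoherent := isQuasicoherent_kernel d₁.hom
  let e : prodMod U₀ ⟶ K := kernel.lift d₁.hom d₀.hom hcomp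
  have hιinj : ∀ W, Function.Injective ((kernel.ι d₁.hom).app W) :=
    (mono_iff_app_injective _).1 inferInstance
  have he : ∀ W v, (kernel.ι d₁.hom).app W (e.app W v) = d₀.hom.app W v := fun W v => by
    rw [← ConcreteCategory.comp_apply, ← Scheme.Modules.Hom.comp_app, kernel.lift_ι]
  have hrange : ∀ W z, d₁.hom.app W z = 0 ↔ ∃ c, (kernel.ι d₁.hom).app W c = z :=
    fun W z => exists_kernel_app_eq d₁.hom W z
  -- the cokernel is coherent
  let C : X.Modules := cokernel e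
  haveI : C.IsQuasicoherent := isQuasicoherent_cokernel e
  have hC : Coh.IsCoh C := ⟨inferInstance, by
    refine isFiniteType_of_affine_cover C Ω hcov fun l => ?_
    haveI := IsLocallyNoetherian.component_noetherian (Ω l)
    let W := (Ω l).1
    let L : Submodule Γ(X, W) Γ(prodMod U₁, W) := LinearMap.ker (appLinearMap d₁.hom W)
    choose c hc using fun z : L => (hrange W z.1).1 z.2
    let π : L →ₗ[Γ(X, W)] Γ(C, W) :=
      { toFun := fun z => (cokernel.π e).app W (c z)
        map_add' := fun y z => by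
          rw [← map_add]
          refine congrArg _ (hιinj W ?_)
          rw [map_add, hc, hc, hc]
          rfl
        map_smul' := fun r z => by
          rw [RingHom.id_apply, ← Scheme.Modules.Hom.app_smul]
          refine congrArg _ (hιinj W ?_)
          rw [Scheme.Modules.Hom.app_smul, hc, hc]
          rfl }
    have hsurj : LinearMap.range π = ⊤ := LinearMap.range_eq_top.2 fun w => by
      obtain ⟨y, rfl⟩ := app_surjective_of_epi (cokernel.π e) (Ω l).2 w
      refine ⟨⟨(kernel.ι d₁.hom).app W y, (hrange W _).2 ⟨y, rfl⟩⟩, ?_⟩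
      exact congrArg _ (hιinj W (hc _))
    have := finite_sections_of_sel U₁ W L π fun z hz => by
      obtain ⟨v, hv⟩ := h₁ l z.1 z.2 hz
      have h2 : c z = e.app W v := hιinj W (by rw [hc, he]; exact hv.symm)
      change (cokernel.π e).app W (c z) = 0
      rw [h2, ← ConcreteCategory.comp_apply, ← Scheme.Modules.Hom.comp_app, cokernel.condition]
      rfl
    rw [hsurj] at this
    exact Module.Finite.equiv Submodule.topEquiv⟩
  -- the image and the kernel of `e`
  let J : X.Modules := kernel (cokernel.π e)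
  haveI : J.IsQuasicoherent := isQuasicoherent_kernel (cokernel.π e)
  let q : prodMod U₀ ⟶ J := Abelian.factorThruImage e
  have hq : q ≫ kernel.ι (cokernel.π e) = e := Abelian.image.fac e
  haveI : Epi q := inferInstanceAs (Epi (Abelian.factorThruImage e))
  let T : X.Modules := kernel q
  haveI : T.IsQuasicoherent := isQuasicoherent_kernel q
  have hT : Coh.IsCoh T := ⟨inferInstance, by
    refine isFiniteType_of_affine_cover T Ω hcov fun l => ?_
    haveI := IsLocallyNoetherian.component_noetherian (Ω l)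
    let W := (Ω l).1
    let ι' := appLinearMap (kernel.ι q) W
    have hinj : Function.Injective ι' := (mono_iff_app_injective _).1 inferInstance W
    let L : Submodule Γ(X, W) Γ(prodMod U₀, W) := LinearMap.range ι'
    have := finite_sections_of_sel U₀ W L LinearMap.id fun z hz => by
      obtain ⟨t, ht⟩ := z.2
      have h3 : q.app W z.1 = 0 := by
        rw [← ht]
        change q.app W ((kernel.ι q).app W t) = 0
        rw [← ConcreteCategory.comp_apply, ← Scheme.Modules.Hom.comp_app, kernel.condition]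
        rfl
      have h4 : d₀.hom.app W z.1 = 0 := by
        rw [← he, show e.app W z.1 = (kernel.ι (cokernel.π e)).app W (q.app W z.1) by
          conv_lhs => rw [← hq]
          rfl, h3, map_zero, map_zero]
      exact Subtype.ext (h₀ l z.1 h4 hz)
    rw [LinearMap.range_id] at this
    haveI := Module.Finite.equiv (Submodule.topEquiv (R := Γ(X, W)) (M := L))
    exact Module.Finite.equiv (LinearEquiv.ofInjective ι' hinj).symm⟩
  -- cohomology
  let φ₀ := Coh.toGlobal x
  have hS₁ := shortExact_of_epi q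
  have hS₂ := shortExact_of_epi (cokernel.π e)
  let S₁ := modSES φ₀ _ hS₁
  let S₂ := modSES φ₀ _ hS₂
  let mq := mapHMod S₁.g ⊤ 0
  let mι := mapHMod S₂.f ⊤ 0
  let mπ := mapHMod S₂.g ⊤ 0
  haveI : Module.Finite k (HMod S₂.X₃ (⊤ : X.Opens) 0) := allFin_of_isProper x C hC 0
  haveI : Module.Finite k (HMod S₁.X₁ (⊤ : X.Opens) 1) := allFin_of_isProper x T hT 1
  let δ := S₁.delta ⊤ 0
  haveI : IsNoetherian k (HMod S₁.X₁ (⊤ : X.Opens) 1) := isNoetherian_of_isNoetherianRing_of_finite k _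
  haveI : Module.Finite k (HMod S₁.X₃ (⊤ : X.Opens) 0 ⧸ LinearMap.ker δ) :=
    Module.Finite.equiv δ.quotKerEquivRange.symm
  let R₀ : Submodule k (HMod S₂.X₂ (⊤ : X.Opens) 0) := (LinearMap.ker δ).map mι
  have hle : R₀ ≤ LinearMap.ker mπ := by
    rintro _ ⟨y, -, rfl⟩
    exact (eMap_g_eq_zero_iff (S := S₂.sc) S₂.shortExact ⊤ 0 _).2 ⟨y, rfl⟩
  haveI : Module.Finite k (HMod S₂.X₂ (⊤ : X.Opens) 0 ⧸ R₀) := by
    refine finite_of_exact_pair ((LinearMap.ker δ).mapQ R₀ mι fun y hy => ⟨y, hy, rfl⟩)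
      (R₀.liftQ mπ hle) fun z hz => ?_
    obtain ⟨z, rfl⟩ := R₀.mkQ_surjective z
    obtain ⟨y, rfl⟩ := (eMap_g_eq_zero_iff (S := S₂.sc) S₂.shortExact ⊤ 0 z).1 hz
    exact ⟨Submodule.Quotient.mk y, rfl⟩
  obtain ⟨n, g, hg⟩ := Module.Finite.exists_fin (R := k) (M := HMod S₂.X₂ (⊤ : X.Opens) 0 ⧸ R₀)
  choose g' hg' using fun i => R₀.mkQ_surjective (g i)
  let sec : HMod S₂.X₂ (⊤ : X.Opens) 0 →+ Γ(prodMod U₁, ⊤) :=
    ((kernel.ι d₁.hom).app ⊤).hom.comp (h0Equiv x K).toAddMonoidHom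
  have hsec : ∀ (c : k) z, sec (c • z) = (show Γ(X, ⊤) from φ₀ c) • sec z := fun c z => by
    change (kernel.ι d₁.hom).app ⊤ (h0Equiv x K (c • z)) = _
    rw [h0Equiv_smul, Scheme.Modules.Hom.app_smul]
    rfl
  refine ⟨n, fun i => sec (g' i), fun i => (hrange ⊤ _).2 ⟨_, rfl⟩, fun φ hφ => ?_⟩
  obtain ⟨y, hy⟩ := (hrange ⊤ φ).1 hφ
  let z : HMod S₂.X₂ (⊤ : X.Opens) 0 := (h0Equiv x K).symm y
  have hz : R₀.mkQ z ∈ Submodule.span k (Set.range g) := hg ▸ Submodule.mem_top
  obtain ⟨c, hc⟩ := (Submodule.mem_span_range_iff_exists_fun k).1 hz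
  have hd : z - ∑ i, c i • g' i ∈ R₀ := by
    rw [← Submodule.ker_mkQ R₀, LinearMap.mem_ker, map_sub, map_sum, ← hc, sub_eq_zero]
    exact Finset.sum_congr rfl fun i _ => by rw [map_smul, hg']
  obtain ⟨w, hw, hwz⟩ := hd
  obtain ⟨v', hv'⟩ := (eDelta_eq_zero_iff (S := S₁.sc) S₁.shortExact ⊤ 0 w).1 hw
  refine ⟨c, h0Equiv x (prodMod U₀) v', ?_⟩
  have h5 : sec (mι w) = d₀.hom.app ⊤ (h0Equiv x (prodMod U₀) v') := by
    rw [show w = mq v' from hv'.symm]
    change (kernel.ι d₁.hom).app ⊤ (h0Equiv x K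
      (mapHMod (modHom φ₀ (kernel.ι (cokernel.π e))) ⊤ 0 (mapHMod (modHom φ₀ q) ⊤ 0 v'))) = _
    rw [h0Equiv_map, h0Equiv_map, ← he]
    conv_rhs => rw [← hq]
    rfl
  rw [← h5, hwz, map_sub, map_sum]
  simp only [hsec]
  rw [add_sub_cancel]
  change (kernel.ι d₁.hom).app ⊤ (h0Equiv x K z) = φ
  rw [AddEquiv.apply_symm_apply, hy]

end Groth.Agent.TangentFin
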