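import Groth.Agent.CotLib.ExalPres
import Mathlib.Algebra.MvPolynomial.PDeriv
import Mathlib.RingTheory.Etale.Basic
import Mathlib.RingTheory.Smooth.Basic
import Mathlib.RingTheory.Unramified.Basic
import Mathlib.RingTheory.Kaehler.Basic

/-!
# Linear maps on relations along a formally étale extension

Along a formally étale `B → C`, with compatible presentations, a linear map on the relations of `C`
vanishing on the relations of `B` is uniquely given by a vector field vanishing on the coordinates of `B`.
-/

set_option autoImplicit false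
universe u

open MvPolynomial Groth.Agent.CotLib

namespace Groth.Agent.TangentFin

section dv

variable {k σ τ C D : Type*} [CommRing k] [CommRing C] [CommRing D] [Fintype σ] [Fintype τ]
variable (π : MvPolynomial σ k →+* C) (v : σ → C)

/-- The vector field `v` applied to a polynomial, with values in `C`. -/
noncomputable def dv (r : MvPolynomial σ k) : C := ∑ p, π (pderiv p r) * v p

theorem dv_add (a b : MvPolynomial σ k) : dv π v (a + b) = dv π v a + dv π v b := by
  simp only [dv, map_add, add_mul, Finset.sum_add_distrib]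

theorem dv_mul (a b : MvPolynomial σ k) : dv π v (a * b) = π a * dv π v b + π b * dv π v a := by
  simp only [dv, Finset.mul_sum, ← Finset.sum_add_distrib]
  refine Finset.sum_congr rfl fun i _ => ?_
  rw [pderiv_mul, map_add, map_mul, map_mul]
  ring

theorem dv_C (c : k) : dv π v (MvPolynomial.C c) = 0 := by simp [dv]

theorem dv_X [DecidableEq σ] (p : σ) : dv π v (X p) = v p := by
  simp [dv, pderiv_X, Pi.single_apply, apply_ite π]

variable {π v}

theorem eq_dv_of_der {δ : MvPolynomial σ k → C} (hadd : ∀ a b, δ (a + b) = δ a + δ b)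
    (hmul : ∀ a b, δ (a * b) = π a * δ b + π b * δ a) (hC : ∀ c, δ (MvPolynomial.C c) = 0)
    (hX : ∀ p, δ (X p) = v p) (r : MvPolynomial σ k) : δ r = dv π v r := by
  classical
  induction r using MvPolynomial.induction_on with
  | C c => rw [hC, dv_C]
  | add a b ha hb => rw [hadd, dv_add, ha, hb]
  | mul_X a p ha => rw [hmul, dv_mul, ha, hX, dv_X]

theorem dv_rename (e : τ → σ) (r : MvPolynomial τ k) :
    dv π v (rename e r) = dv (π.comp (rename e).toRingHom) (fun j => v (e j)) r := by
  classical
  refine eq_dv_of_der (δ := fun r => dv π v (rename e r)) (fun a b => ?_) (fun a b => ?_) (fun c => ?_)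
    (fun p => ?_) r
  · rw [map_add, dv_add]
  · rw [map_mul, dv_mul]
    rfl
  · rw [rename_C, dv_C]
  · rw [rename_X, dv_X]

theorem map_dv (f : C →+* D) (r : MvPolynomial σ k) :
    f (dv π v r) = dv (f.comp π) (fun p => f (v p)) r := by
  simp only [dv, map_sum, map_mul, RingHom.comp_apply]

theorem dv_add_right (w : σ → C) (r : MvPolynomial σ k) :
    dv π (v + w) r = dv π v r + dv π w r := by
  simp only [dv, Pi.add_apply, mul_add, Finset.sum_add_distrib]

theorem dv_zero_right (r : MvPolynomial σ k) : dv π (0 : σ → C) r = 0 := by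
  simp [dv]

end dv

variable {k : Type u} {σ τ B C : Type u} [CommRing k] [Fintype σ] [Fintype τ] [CommRing B] [CommRing C]
variable [Algebra B C] {π : MvPolynomial σ k →+* C} {π₀ : MvPolynomial τ k →+* B}
variable {e : τ → σ}

theorem exists_field [Algebra.FormallySmooth B C] (hπ : Function.Surjective π)
    (hπ₀ : Function.Surjective π₀)
    (hc : ∀ r, π (rename e r) = algebraMap B C (π₀ r))
    (φ : MvPolynomial σ k → C) (hadd : ∀ a b, π a = 0 → π b = 0 → φ (a + b) = φ a + φ b)
    (hsmul : ∀ r a, π a = 0 → φ (r * a) = π r * φ a)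
    (hφ : ∀ r, π₀ r = 0 → φ (rename e r) = 0) :
    ∃ v : σ → C, (∀ j, v (e j) = 0) ∧ ∀ a, π a = 0 → φ a = dv π v a := by
  letI : Algebra k C := (π.comp MvPolynomial.C).toAlgebra
  let πz : MvPolynomial σ k →ₐ[k] C := { π with commutes' := fun c => rfl }
  let φ' : ExalPres.Phi πz C :=
    { toFun := fun (x : RingHom.ker πz) => φ x.1
      map_add' := fun (x y : RingHom.ker πz) =>
        hadd x.1 y.1 (show π x.1 = 0 from x.2) (show π y.1 = 0 from y.2)
      map_smul' := fun r (x : RingHom.ker πz) => hsmul r x.1 (show π x.1 = 0 from x.2) }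
  obtain ⟨Φ, hΦ, hΦφ⟩ := ExalPres.lifts_E (π := πz) hπ φ'
  let T := ExalPres.E (π := πz) hπ φ'
  have hkill : RingHom.ker π₀ ≤ RingHom.ker (Φ.toRingHom.comp (rename e).toRingHom) := fun r hr => by
    rw [RingHom.mem_ker] at hr ⊢
    have h0 : π (rename e r) = 0 := by rw [hc, hr, map_zero]
    refine (hΦφ ⟨rename e r, h0⟩).trans ?_
    change T.incl (φ (rename e r)) = 0
    rw [hφ r hr, map_zero]
  let β : B →+* T.E := π₀.liftOfSurjective hπ₀ ⟨_, hkill⟩
  have hβ : ∀ r, β (π₀ r) = Φ (rename e r) := fun r =>
    RingHom.liftOfSurjective_comp_apply π₀ hπ₀ ⟨_, hkill⟩ r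
  letI : Algebra B T.E := β.toAlgebra
  let pr : T.E →ₐ[B] C :=
    { T.proj.toRingHom with
      commutes' := fun b => by
        obtain ⟨r, rfl⟩ := hπ₀ b
        change T.proj (β (π₀ r)) = _
        rw [hβ, hΦ]
        exact hc r }
  have hsq : RingHom.ker (pr : T.E →+* C) ^ 2 = ⊥ := by
    rw [pow_two, eq_bot_iff, Ideal.mul_le]
    intro a ha b hb
    obtain ⟨m, rfl⟩ := (T.isExtension.exact a).1 ha
    obtain ⟨n, rfl⟩ := (T.isExtension.exact b).1 hb
    exact ExalPres.incl_mul_incl T m n
  let s : C →ₐ[B] T.E := Algebra.FormallySmooth.liftOfSurjective (AlgHom.id B C) pr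
    T.isExtension.proj_surjective ⟨2, hsq⟩
  have hs : ∀ c, T.proj (s c) = c := fun c =>
    Algebra.FormallySmooth.liftOfSurjective_apply (AlgHom.id B C) pr
      T.isExtension.proj_surjective ⟨2, hsq⟩ c
  have hz : ∀ r, T.proj (Φ r - s (π r)) = 0 := fun r => by
    rw [map_sub, hΦ, hs]
    exact sub_self _
  choose D hD using fun r => (T.isExtension.exact _).1 (hz r)
  have hinj := T.isExtension.incl_injective
  have hD0 : ∀ r, D (rename e r) = 0 := fun r => hinj (by
    rw [hD, map_zero, hc, s.commutes]
    exact sub_eq_zero.2 (hβ r).symm)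
  refine ⟨fun p => D (X p), fun j => ?_, fun a ha => ?_⟩
  · change D (X (e j)) = 0
    rw [← rename_X]; exact hD0 _
  refine Eq.trans ?_ (eq_dv_of_der (π := π) (δ := D) (fun x y => hinj ?_) (fun x y => hinj ?_)
    (fun c => by rw [← rename_C e]; exact hD0 _) (fun p => rfl) a)
  · refine hinj ((hΦφ ⟨a, ha⟩).symm.trans ?_)
    rw [hD, ha, map_zero, sub_zero]
  · rw [map_add, hD, hD, hD, map_add, map_add, map_add]
    abel
  · have h1 : T.incl (π x • D y) = Φ x * T.incl (D y) := by
      rw [← show T.proj (Φ x) = π x from hΦ x, ← T.isExtension.mul_incl]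
    have h2 : T.incl (π y • D x) = s (π y) * T.incl (D x) := by
      conv_lhs => rw [← hs (π y), ← T.isExtension.mul_incl]
    rw [map_add, ← smul_eq_mul (π x), ← smul_eq_mul (π y), h1, h2, hD, hD, hD, map_mul, map_mul,
      map_mul]
    ring

theorem field_unique [Algebra.FormallyUnramified B C] {C' : Type u} [CommRing C'] (f : C →+* C')
    (hπ : Function.Surjective π) (hπ₀ : Function.Surjective π₀)
    (hc : ∀ r, π (rename e r) = algebraMap B C (π₀ r))
    {v : σ → C'} (hv : ∀ j, v (e j) = 0) (h : ∀ a, π a = 0 → dv (f.comp π) v a = 0) : v = 0 := by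
  classical
  choose r hr using hπ
  have key : ∀ a, dv (f.comp π) v a = dv (f.comp π) v (r (π a)) := fun a => by
    have h1 := h (a - r (π a)) (by rw [map_sub, hr, sub_self])
    rw [show dv (f.comp π) v a = dv (f.comp π) v ((a - r (π a)) + r (π a)) by rw [sub_add_cancel],
      dv_add, h1, zero_add]
  have hadd : ∀ x y, dv (f.comp π) v (r (x + y)) =
      dv (f.comp π) v (r x) + dv (f.comp π) v (r y) := fun x y => by
    conv_lhs => rw [← hr x, ← hr y, ← map_add, ← key, dv_add]
  have hmul : ∀ x y, dv (f.comp π) v (r (x * y)) =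
      f x * dv (f.comp π) v (r y) + f y * dv (f.comp π) v (r x) := fun x y => by
    conv_lhs => rw [← hr x, ← hr y, ← map_mul, ← key, dv_mul]
    rw [RingHom.comp_apply, RingHom.comp_apply, hr, hr]
  have hbase : ∀ b, dv (f.comp π) v (r (algebraMap B C b)) = 0 := fun b => by
    obtain ⟨a, rfl⟩ := hπ₀ b
    rw [← hc, ← key, dv_rename, show (fun j => v (e j)) = (0 : τ → C') from funext hv, dv_zero_right]
  letI : Algebra C C' := f.toAlgebra
  letI : Algebra B C' := (f.comp (algebraMap B C)).toAlgebra
  haveI : IsScalarTower B C C' := IsScalarTower.of_algebraMap_eq fun _ => rfl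
  let L : C →ₗ[B] C' :=
    { toFun := fun x => dv (f.comp π) v (r x)
      map_add' := hadd
      map_smul' := fun b x => by
        rw [RingHom.id_apply, Algebra.smul_def, Algebra.smul_def, hmul, hbase, mul_zero, add_zero]
        rfl }
  let δ : Derivation B C C' := Derivation.mk' L fun x y => by
    change dv (f.comp π) v (r (x * y)) = x • dv (f.comp π) v (r y) + y • dv (f.comp π) v (r x)
    rw [hmul, Algebra.smul_def, Algebra.smul_def]
    rfl
  have hsub : δ = 0 := (KaehlerDifferential.linearMapEquivDerivation B C (M := C')).symm.injective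
    (Subsingleton.elim _ _)
  funext p
  have h2 : dv (f.comp π) v (r (π (X p))) = 0 :=
    congrArg (fun d : Derivation B C C' => d (π (X p))) hsub
  rw [← key, dv_X] at h2
  exact h2

end Groth.Agent.TangentFin
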