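import Groth.Agent.TangentFin.Local
import Groth.Agent.DefGlue.Conditions
import Groth.Agent.DefAut.Rigid

/-!
# Lifting coordinates to deformations
-/

set_option autoImplicit false
set_option linter.unusedSectionVars false
set_option backward.isDefEq.respectTransparency false
universe u

open CategoryTheory CategoryTheory.Limits AlgebraicGeometry TopologicalSpace IsLocalRing ArtFun
open MvPolynomial Groth.Agent.DefGlue

namespace Groth.Agent.TangentFin

variable {Λ k : Type u} [CommRing Λ] [Field k] [Algebra Λ k]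
variable {X : Scheme.{u}} {x : X ⟶ Spec (CommRingCat.of k)}
variable {A A' : Art Λ k}

/-- The open of a deformation over an open of `X`. -/
noncomputable def img (ξ : DefSch X x A) (W : X.Opens) : ξ.total.Opens :=
  ⟨ξ.i '' W, ((ξ.i.isClosedEmbedding.isEmbedding.toHomeomorphOfSurjective
    (DefAut.surjective_i ξ)).isOpenMap W W.2)⟩

theorem preimage_img (ξ : DefSch X x A) (W : X.Opens) : ξ.i ⁻¹ᵁ img ξ W = W :=
  Opens.ext (Set.preimage_image_eq _ ξ.i.isClosedEmbedding.injective)

theorem img_mono (ξ : DefSch X x A) {W W' : X.Opens} (h : W ≤ W') : img ξ W ≤ img ξ W' :=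
  Set.image_mono h

theorem isAffineOpen_img (ξ : DefSch X x A) {W : X.Opens} (h : IsAffineOpen W) :
    IsAffineOpen (img ξ W) :=
  isAffineOpen_of_i ξ (by rwa [preimage_img])

theorem over_img {g : A ⟶ A'} {η : DefSch X x A'} {ξ : DefSch X x A} (φ : Over g η ξ) (W : X.Opens) :
    img η W ≤ φ.map ⁻¹ᵁ img ξ W := by
  rintro _ ⟨p, hp, rfl⟩
  exact ⟨p, hp, (congr($(φ.i_map) p)).symm⟩

/-- Reduction to the closed fibre. -/
noncomputable def red (ξ : DefSch X x A) (W : X.Opens) : Γ(ξ.total, img ξ W) →+* Γ(X, W) :=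
  (ξ.i.appLE (img ξ W) W (preimage_img ξ W).ge).hom

theorem isDef_img (ξ : DefSch X x A) {W : X.Opens} (h : IsAffineOpen W) :
    IsDefOn x W A (sHom ξ.f (img ξ W)) (red ξ W) :=
  isDef_chart ξ (isAffineOpen_img ξ h) (preimage_img ξ W).symm

theorem red_surjective (ξ : DefSch X x A) {W : X.Opens} (h : IsAffineOpen W) :
    Function.Surjective (red ξ W) := by
  letI := (sHom x W).toAlgebra
  exact (isDef_img ξ h).surj

theorem red_res (ξ : DefSch X x A) {W W' : X.Opens} (h : W' ≤ W) (z : Γ(ξ.total, img ξ W)) :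
    red ξ W' (ξ.total.presheaf.map (homOfLE (img_mono ξ h)).op z) =
      X.presheaf.map (homOfLE h).op (red ξ W z) := by
  change ξ.i.appLE _ _ _ _ = X.presheaf.map _ (ξ.i.appLE _ _ _ _)
  rw [← ConcreteCategory.comp_apply, ← ConcreteCategory.comp_apply, Scheme.Hom.map_appLE,
    Scheme.Hom.appLE_map]

theorem red_sHom (ξ : DefSch X x A) (W : X.Opens) (a : A) :
    red ξ W (sHom ξ.f (img ξ W) a) = sHom x W (A.res a) := by
  change ξ.i.appLE _ _ _ _ = _
  rw [sHom_appLE, ξ.isPullback.w, sHom_specMap]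
  rfl

theorem red_over {g : A ⟶ A'} {η : DefSch X x A'} {ξ : DefSch X x A} (φ : Over g η ξ) (W : X.Opens)
    (z : Γ(ξ.total, img ξ W)) :
    red η W (φ.map.appLE _ _ (over_img φ W) z) = red ξ W z :=
  φ.i_appLE _ _ W (over_img φ W) _ _ z

theorem res_sHom' {S : Scheme.{u}} {R : Type u} [CommRing R] (F : S ⟶ Spec (CommRingCat.of R))
    {V V' : S.Opens} (h : V' ≤ V) (r : R) :
    S.presheaf.map (homOfLE h).op (sHom F V r) = sHom F V' r := res_res (X := S) _ _ _

namespace Pres

variable (D : Pres x) (ξ : DefSch X x A) (ι₀ : k →+* A)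

/-- Lifting the coordinates. -/
abbrev IsLift (y : ∀ p : D.Crd, Γ(ξ.total, img ξ (D.UT p.1))) : Prop :=
  ∀ p : D.Crd, @Eq Γ(X, D.UT p.1) (red ξ (D.UT p.1) (y p)) (D.coord p.1 p.2)

/-- Lifts of the coordinates. -/
abbrev Lifts : Type u := {y : ∀ p : D.Crd, Γ(ξ.total, img ξ (D.UT p.1)) // D.IsLift ξ y}

theorem nonempty_lifts : Nonempty (D.Lifts ξ) := by
  choose y hy using fun p : D.Crd => red_surjective ξ (D.affine _ p.1.2) (D.coord p.1 p.2)
  exact ⟨⟨y, hy⟩⟩

variable {D ξ}

/-- The lifted presentation. -/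
noncomputable def lev (y : D.Lifts ξ) (t : D.Idx) :
    MvPolynomial (D.Vs t) k →+* Γ(ξ.total, img ξ (D.UT t)) :=
  eval₂Hom ((sHom ξ.f (img ξ (D.UT t))).comp ι₀) fun p =>
    ξ.total.presheaf.map (homOfLE (img_mono ξ (D.UT_anti p.2))).op (y.1 p.1)

theorem lev_rename (y : D.Lifts ξ) {s t : D.Idx} (h : s.1 ⊆ t.1) (r : MvPolynomial (D.Vs s) k) :
    lev ι₀ y t (rename (D.incl h) r) =
      ξ.total.presheaf.map (homOfLE (img_mono ξ (D.UT_anti h))).op (lev ι₀ y s r) := by
  induction r using MvPolynomial.induction_on with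
  | C c =>
    simp only [lev, rename_C, eval₂Hom_C, RingHom.comp_apply]
    exact (res_sHom' _ _ _).symm
  | add a b ha hb => simp only [map_add, ha, hb]
  | mul_X a p ha =>
    simp only [map_mul, rename_X, ha]
    congr 1
    simp only [lev, eval₂Hom_X']
    exact (res_res (X := ξ.total) _ _ _).symm

variable (hι : ∀ c, A.res (ι₀ c) = c)
include hι

theorem red_lev (y : D.Lifts ξ) (t : D.Idx) (r : MvPolynomial (D.Vs t) k) :
    red ξ (D.UT t) (lev ι₀ y t r) = D.ev t r := by
  induction r using MvPolynomial.induction_on with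
  | C c =>
    simp only [lev, ev, eval₂Hom_C, RingHom.comp_apply]
    rw [red_sHom, hι]
  | add a b ha hb => simp only [map_add, ha, hb]
  | mul_X a p ha =>
    simp only [map_mul, ha]
    congr 1
    simp only [lev, ev, eval₂Hom_X']
    rw [red_res, y.2]

end Pres

end Groth.Agent.TangentFin
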