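import Groth.Agent.TangentFin.Pres

/-!
# Local finiteness of the complex of presentations
-/

set_option autoImplicit false
set_option linter.unusedSectionVars false
set_option backward.isDefEq.respectTransparency false
universe u

open CategoryTheory CategoryTheory.Limits AlgebraicGeometry TopologicalSpace
open MvPolynomial Groth.Agent.DefGlue

namespace Groth.Agent.TangentFin.Pres

variable {k : Type u} [Field k] {X : Scheme.{u}} {x : X ⟶ Spec (CommRingCat.of k)} (D : Pres x) (l : D.ι)

/-- The members of the cover as affine opens. -/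
noncomputable def omega : X.affineOpens :=
  ⟨D.U l, by rw [← D.UT_single l]; exact D.affine _ (Finset.singleton_nonempty l)⟩

theorem h₀ (v : Sect (fun p : D.Crd => D.UT p.1) (D.U l)) (hv : D.d₀.sect (D.U l) v = 0)
    (hsel : ∀ p : D.Crd, D.U l ≤ D.UT p.1 → v p = 0) : v = 0 := by
  funext p
  let t := D.adj l p.1
  have hlt : l ∈ t.1 := Finset.mem_insert_self l _
  have hsub : p.1.1 ⊆ t.1 := Finset.subset_insert l _
  have h := D.field_eq_zero l (subset_refl t.1) hlt (v := D.fieldAt (D.U l) v t) (fun j => ?_) fun a ha => ?_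
  · have h2 := congrFun h ⟨p, hsub⟩
    refine res_injective (inf_le_inf_left (D.U l) (D.UT_anti hsub)) ?_ (h2.trans (map_zero _).symm)
    refine le_inf inf_le_left (le_iInf₂ fun i hi => ?_)
    rcases Finset.mem_insert.1 hi with rfl | hi
    · exact inf_le_left
    · exact inf_le_right.trans (iInf₂_le i hi)
  · refine (congrArg _ (hsel j.1 (le_iInf₂ fun i hi => ?_))).trans (map_zero _)
    rw [Finset.mem_singleton.1 (j.2 hi)]
  · obtain ⟨c, rfl⟩ := (D.evW_eq_zero_iff l t hlt a).1 ha
    rw [show (X.presheaf.map (homOfLE (inf_le_inf_left (D.U l) (D.UT_anti (subset_refl t.1)))).op).hom.comp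
        (D.evW (D.U l) t) = D.evW (D.U l) t from RingHom.ext fun r => res_self _ _]
    rw [dv_lc, hv]
    exact Finset.sum_eq_zero fun b _ => by rw [Pi.zero_apply, map_zero, mul_zero]

theorem exists_fieldAt {φ : Sect (fun a : D.Gen => D.UT a.1) (D.U l)} (hφ : D.d₁.sect (D.U l) φ = 0)
    (hsel : ∀ a : D.Gen, D.U l ≤ D.UT a.1 → φ a = 0) (t : D.Idx) (hlt : l ∈ t.1) :
    ∃ v : D.Vs t → Γ(X, D.U l ⊓ D.UT t),
      (∀ j, v (D.incl (s := D.single l) (t := t) (Finset.singleton_subset_iff.2 hlt) j) = 0) ∧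
      ∀ c, dv (D.evW (D.U l) t) v (Fintype.linearCombination (MvPolynomial (D.Vs t) k) (D.gAt t) c) =
        D.lcVal (D.U l) φ t c := by
  classical
  let hs : (D.single l).1 ⊆ t.1 := Finset.singleton_subset_iff.2 hlt
  let f : MvPolynomial (D.Vs t) k → Γ(X, D.U l ⊓ D.UT t) := fun a =>
    if h : D.evW (D.U l) t a = 0 then D.lcVal (D.U l) φ t ((D.evW_eq_zero_iff l t hlt a).1 h).choose else 0
  have hf : ∀ c a, Fintype.linearCombination (MvPolynomial (D.Vs t) k) (D.gAt t) c = a →
      f a = D.lcVal (D.U l) φ t c := by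
    intro c a hc
    have h : D.evW (D.U l) t a = 0 := (D.evW_eq_zero_iff l t hlt a).2 ⟨c, hc⟩
    simp only [f, dif_pos h]
    have hd := D.lcVal_eq_zero (D.U l) hφ t
      (c := ((D.evW_eq_zero_iff l t hlt a).1 h).choose - c) (by
        rw [map_sub, ((D.evW_eq_zero_iff l t hlt a).1 h).choose_spec, hc, sub_self])
    have h2 := D.lcVal_add (D.U l) φ t (((D.evW_eq_zero_iff l t hlt a).1 h).choose - c) c
    rw [sub_add_cancel, hd, zero_add] at h2
    exact h2
  letI := (X.presheaf.map (homOfLE (inf_le_inf_left (D.U l)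
    (D.UT_anti (s := D.single l) (t := t) hs))).op).hom.toAlgebra
  haveI : Algebra.Etale Γ(X, D.U l ⊓ D.UT (D.single l)) Γ(X, D.U l ⊓ D.UT t) :=
    etale_res (D.affineW l _) (D.affineW l _) _
  obtain ⟨v, hv, hvf⟩ := exists_field (B := Γ(X, D.U l ⊓ D.UT (D.single l))) (C := Γ(X, D.U l ⊓ D.UT t))
    (D.evW_surjective l t hlt) (D.evW_surjective l _ (Finset.mem_singleton_self l))
    (fun r => D.evW_rename _ hs r) f
    (fun a b ha hb => by
      obtain ⟨c, rfl⟩ := (D.evW_eq_zero_iff l t hlt a).1 ha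
      obtain ⟨c', rfl⟩ := (D.evW_eq_zero_iff l t hlt b).1 hb
      rw [← map_add, hf _ _ rfl, hf _ _ rfl, hf _ _ rfl, lcVal_add])
    (fun r a ha => by
      obtain ⟨c, rfl⟩ := (D.evW_eq_zero_iff l t hlt a).1 ha
      rw [← smul_eq_mul, ← map_smul, hf _ _ rfl, hf _ _ rfl, lcVal_smul])
    (fun r hr => by
      obtain ⟨c, rfl⟩ := (D.evW_eq_zero_iff l (D.single l) (Finset.mem_singleton_self l) r).1 hr
      let g : D.At (D.single l) → D.At t := fun a => ⟨a.1, a.2.trans hs⟩
      have e1 : rename (D.incl (s := D.single l) (t := t) hs)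
          (Fintype.linearCombination (MvPolynomial (D.Vs (D.single l)) k) (D.gAt (D.single l)) c) =
          ∑ a, rename (D.incl (s := D.single l) (t := t) hs) (c a) * D.gAt t (g a) := by
        rw [Fintype.linearCombination_apply, map_sum]
        refine Finset.sum_congr rfl fun a _ => ?_
        rw [smul_eq_mul, map_mul, gAt, gAt, rename_rename]
        rfl
      have e2 : ∑ a, rename (D.incl (s := D.single l) (t := t) hs) (c a) * D.gAt t (g a) =
          Fintype.linearCombination (MvPolynomial (D.Vs t) k) (D.gAt t)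
            (∑ a, Pi.single (g a) (rename (D.incl (s := D.single l) (t := t) hs) (c a))) := by
        rw [map_sum]
        refine Finset.sum_congr rfl fun a _ => ?_
        rw [Fintype.linearCombination_apply_single, smul_eq_mul]
      rw [hf _ _ (e1.trans e2).symm]
      refine Finset.sum_eq_zero fun b _ => ?_
      by_cases hb : b.1.1.1 ⊆ {l}
      · rw [hsel b.1 (le_iInf₂ fun i hi => by rw [Finset.mem_singleton.1 (hb hi)]), map_zero, mul_zero]
      · have : (∑ a, Pi.single (g a) (rename (D.incl (s := D.single l) (t := t) hs) (c a)) :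
            D.At t → MvPolynomial (D.Vs t) k) b = 0 := by
          rw [Finset.sum_apply]
          refine Finset.sum_eq_zero fun a _ => Pi.single_eq_of_ne (fun e => hb ?_) _
          rw [e]
          exact a.2
        rw [this, map_zero, zero_mul])
  exact ⟨v, hv, fun c => (hvf _ ((D.evW_eq_zero_iff l t hlt _).2 ⟨c, rfl⟩)).symm.trans (hf _ _ rfl)⟩

theorem h₁ (φ : Sect (fun a : D.Gen => D.UT a.1) (D.U l)) (hφ : D.d₁.sect (D.U l) φ = 0)
    (hsel : ∀ a : D.Gen, D.U l ≤ D.UT a.1 → φ a = 0) : ∃ v, D.d₀.sect (D.U l) v = φ := by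
  classical
  choose V hV0 hV using fun t hlt => D.exists_fieldAt l hφ hsel t hlt
  have hlt : ∀ s : D.Idx, l ∈ (D.adj l s).1 := fun s => Finset.mem_insert_self l _
  have hsub : ∀ s : D.Idx, s.1 ⊆ (D.adj l s).1 := fun s => Finset.subset_insert l _
  have hle : ∀ s : D.Idx, D.U l ⊓ D.UT s ≤ D.U l ⊓ D.UT (D.adj l s) := fun s =>
    le_inf inf_le_left (le_iInf₂ fun i hi => by
      rcases Finset.mem_insert.1 hi with rfl | hi
      · exact inf_le_left
      · exact inf_le_right.trans (iInf₂_le i hi))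
  have compat : ∀ (s t : D.Idx) (hs : l ∈ s.1) (ht : l ∈ t.1) (h : s.1 ⊆ t.1) (p : D.Vs s),
      X.presheaf.map (homOfLE (inf_le_inf_left (D.U l) (D.UT_anti h))).op (V s hs p) =
        V t ht (D.incl h p) := by
    intro s t hs ht h
    let R := (X.presheaf.map (homOfLE (inf_le_inf_left (D.U l) (D.UT_anti h))).op).hom
    suffices hz : (fun p => R (V s hs p) - V t ht (D.incl h p)) = 0 from fun p =>
      sub_eq_zero.1 (congrFun hz p)
    refine D.field_eq_zero l h hs (fun j => ?_) fun a ha => ?_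
    · rw [hV0]
      change R 0 - V t ht (D.incl (s := D.single l) (t := t) (Finset.singleton_subset_iff.2 ht) j) = 0
      rw [hV0, map_zero, sub_zero]
    · obtain ⟨c, rfl⟩ := (D.evW_eq_zero_iff l s hs a).1 ha
      let g : D.At s → D.At t := fun a => ⟨a.1, a.2.trans h⟩
      have e1 : rename (D.incl h) (Fintype.linearCombination (MvPolynomial (D.Vs s) k) (D.gAt s) c) =
          Fintype.linearCombination (MvPolynomial (D.Vs t) k) (D.gAt t)
            (∑ a, Pi.single (g a) (rename (D.incl h) (c a))) := by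
        rw [Fintype.linearCombination_apply, map_sum, map_sum]
        refine Finset.sum_congr rfl fun a _ => ?_
        rw [Fintype.linearCombination_apply_single, smul_eq_mul, smul_eq_mul, map_mul, gAt, gAt,
          rename_rename]
        rfl
      have e2 : D.lcVal (D.U l) φ t (∑ a, Pi.single (g a) (rename (D.incl h) (c a))) =
          R (D.lcVal (D.U l) φ s c) := by
        let L : (D.At t → MvPolynomial (D.Vs t) k) →+ Γ(X, D.U l ⊓ D.UT t) :=
          AddMonoidHom.mk' (D.lcVal (D.U l) φ t) (D.lcVal_add _ _ _)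
        change L _ = _
        rw [map_sum, lcVal, map_sum]
        refine Finset.sum_congr rfl fun a _ => ?_
        change D.lcVal _ _ _ _ = _
        rw [lcVal, Finset.sum_eq_single (g a) (fun b _ hb => by
            rw [Pi.single_eq_of_ne hb, map_zero, zero_mul]) (fun hb => absurd (Finset.mem_univ _) hb),
          Pi.single_eq_same, evW_rename, map_mul]
        congr 1
        exact (res_res _ _ _).symm
      have hsum : ∀ r, dv (R.comp (D.evW (D.U l) s)) (fun p => R (V s hs p) - V t ht (D.incl h p)) r =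
          R (dv (D.evW (D.U l) s) (V s hs) r) - dv (D.evW (D.U l) t) (V t ht) (rename (D.incl h) r) := by
        intro r
        rw [map_dv, dv_rename, show (D.evW (D.U l) t).comp (rename (D.incl h)).toRingHom =
          R.comp (D.evW (D.U l) s) from RingHom.ext fun r => D.evW_rename _ h r]
        simp only [dv, mul_sub, Finset.sum_sub_distrib]
      rw [hsum, hV, e1, hV, e2, sub_self]
  refine ⟨fun p => X.presheaf.map (homOfLE (hle p.1)).op (V (D.adj l p.1) (hlt _) ⟨p, hsub p.1⟩),
    funext fun a => ?_⟩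
  let t := D.adj l a.1
  refine res_injective (inf_le_inf_left (D.U l) (D.UT_anti (hsub a.1))) (hle a.1) ?_
  refine ((D.dv_gAt (D.U l) _ t ⟨a, hsub a.1⟩).symm.trans ?_)
  have hfield : D.fieldAt (D.U l)
      (fun p => X.presheaf.map (homOfLE (hle p.1)).op (V (D.adj l p.1) (hlt _) ⟨p, hsub p.1⟩)) t =
      V t (hlt _) := by
    funext p
    refine (res_res _ _ _).trans ?_
    exact compat (D.adj l p.1.1) t (hlt _) (hlt _)
      (Finset.insert_subset (hlt _) p.2) ⟨p.1, hsub p.1.1⟩
  rw [hfield, show D.gAt t ⟨a, hsub a.1⟩ = Fintype.linearCombination (MvPolynomial (D.Vs t) k) (D.gAt t)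
    (Pi.single ⟨a, hsub a.1⟩ 1) from (by rw [Fintype.linearCombination_apply_single, one_smul]), hV,
    lcVal, Finset.sum_eq_single (⟨a, hsub a.1⟩ : D.At t) (fun b _ hb => by
      rw [Pi.single_eq_of_ne hb, map_zero, zero_mul]) (fun hb => absurd (Finset.mem_univ _) hb),
    Pi.single_eq_same, map_one, one_mul]

/-- Cycles modulo boundaries of global families are finite dimensional. -/
theorem exists_spanning' [IsProper x] :
    ∃ (n : ℕ) (e : Fin n → Sect (fun a : D.Gen => D.UT a.1) ⊤), (∀ i, D.d₁.sect ⊤ (e i) = 0) ∧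
      ∀ φ : Sect (fun a : D.Gen => D.UT a.1) ⊤, D.d₁.sect ⊤ φ = 0 →
        ∃ (c : Fin n → k) (v : Sect (fun p : D.Crd => D.UT p.1) ⊤),
          φ = fun a => (∑ i, sHom x (⊤ ⊓ D.UT a.1) (c i) * e i a) + D.d₀.sect ⊤ v a := by
  haveI := isAffineHom_diagonal_of_proper x
  obtain ⟨n, e, he, h⟩ := exists_spanning x D.d₀ D.d₁ D.omega
    (fun p => D.affine _ p.1.2) (fun a => D.affine _ a.1.2) (fun b => D.affine _ b.1.2)
    D.d₁_d₀ (fun p => D.cover p) D.h₀ D.h₁
  refine ⟨n, e, he, fun φ hφ => ?_⟩
  obtain ⟨c, v, hcv⟩ := h φ hφ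
  refine ⟨c, v, funext fun a => ?_⟩
  rw [← hcv]
  refine congrArg₂ (fun (y z : Γ(X, ⊤ ⊓ D.UT a.1)) => y + z)
    ((Finset.sum_apply a _ _).trans (Finset.sum_congr rfl fun i _ => ?_)) rfl
  refine (prodMod_smul (fun a : D.Gen => D.UT a.1) _ _ a).trans ?_
  congr 1

end Groth.Agent.TangentFin.Pres
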