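import Groth.Agent.TangentFin.Alg
import Groth.Agent.DefGlue.Basic
import Groth.Agent.TangentFin.Complex
import Mathlib.AlgebraicGeometry.Morphisms.Etale

/-!
# Compatible presentations on the intersections of an affine cover
-/

set_option autoImplicit false
set_option linter.unusedSectionVars false
set_option backward.isDefEq.respectTransparency false
universe u

open CategoryTheory CategoryTheory.Limits AlgebraicGeometry TopologicalSpace
open MvPolynomial Groth.Agent.DefGlue

namespace Groth.Agent.TangentFin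

variable {k : Type u} [Field k] {X : Scheme.{u}}

/-- An affine cover with presentations of all intersections. -/
structure Pres (x : X ⟶ Spec (CommRingCat.of k)) where
  /-- the index type -/
  ι : Type u
  [fintype : Fintype ι]
  [deq : DecidableEq ι]
  /-- the cover -/
  U : ι → X.Opens
  affine : ∀ s : Finset ι, s.Nonempty → IsAffineOpen (⨅ i ∈ s, U i)
  cover : ∀ p : X, ∃ i, p ∈ U i
  /-- number of coordinates -/
  N : {s : Finset ι // s.Nonempty} → ℕ
  /-- coordinates -/
  coord : ∀ s : {s : Finset ι // s.Nonempty}, Fin (N s) → Γ(X, ⨅ i ∈ s.1, U i)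
  surj : ∀ s : {s : Finset ι // s.Nonempty},
    Function.Surjective (eval₂Hom (sHom x (⨅ i ∈ s.1, U i)) (coord s))

theorem exists_coord (x : X ⟶ Spec (CommRingCat.of k)) [LocallyOfFiniteType x] {V : X.Opens}
    (hV : IsAffineOpen V) :
    ∃ (n : ℕ) (c : Fin n → Γ(X, V)), Function.Surjective (eval₂Hom (sHom x V) c) := by
  have h : (x.appLE ⊤ V le_top).hom.FiniteType :=
    HasRingHomProperty.appLE @LocallyOfFiniteType x inferInstance ⟨⊤, isAffineOpen_top _⟩ ⟨V, hV⟩ le_top
  have h2 : (sHom x V).FiniteType := by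
    change ((x.appLE ⊤ V le_top).hom.comp (Scheme.ΓSpecIso (CommRingCat.of k)).inv.hom).FiniteType
    exact h.comp (RingHom.FiniteType.of_surjective _
      (Scheme.ΓSpecIso (CommRingCat.of k)).commRingCatIsoToRingEquiv.symm.surjective)
  letI := (sHom x V).toAlgebra
  obtain ⟨n, f, hf⟩ := Algebra.FiniteType.iff_quotient_mvPolynomial''.1 (h2 : Algebra.FiniteType k Γ(X, V))
  refine ⟨n, fun i => f (MvPolynomial.X i), fun z => ?_⟩
  obtain ⟨p, rfl⟩ := hf z
  refine ⟨p, ?_⟩
  conv_rhs => rw [MvPolynomial.aeval_unique f]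
  rfl

theorem isAffineHom_diagonal_of_proper (x : X ⟶ Spec (CommRingCat.of k)) [IsSeparated x] :
    IsAffineHom (pullback.diagonal (terminal.from X)) := by
  haveI : IsSeparated (terminal.from X) := by
    rw [show terminal.from X = x ≫ terminal.from _ from terminal.hom_ext _ _]
    infer_instance
  infer_instance

theorem exists_pres (x : X ⟶ Spec (CommRingCat.of k)) [IsProper x] : Nonempty (Pres x) := by
  classical
  haveI := isAffineHom_diagonal_of_proper x
  haveI : CompactSpace X := QuasiCompact.compactSpace_of_compactSpace x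
  obtain ⟨κ, _, W, hW, -, hsup⟩ :=
    QCohLib.exists_finite_affine_cover (X := X) (U := ⊤) CompactSpace.isCompact_univ
  have haff : ∀ s : Finset κ, s.Nonempty → IsAffineOpen (⨅ i ∈ s, W i) := fun s hs =>
    IsAffineOpen.biInf (s : Set κ) s.finite_toSet hs fun i _ => hW i
  choose N c hc using fun s : {s : Finset κ // s.Nonempty} => exists_coord x (haff s.1 s.2)
  exact ⟨{ ι := κ, U := W, affine := haff, cover := fun p => Opens.mem_iSup.1 (hsup trivial),
           N := N, coord := c, surj := hc }⟩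

namespace Pres

variable {x : X ⟶ Spec (CommRingCat.of k)} (D : Pres x)

attribute [instance] Pres.fintype Pres.deq

/-- Nonempty sets of indices. -/
abbrev Idx : Type u := {s : Finset D.ι // s.Nonempty}

/-- Intersections. -/
abbrev UT (t : D.Idx) : X.Opens := ⨅ i ∈ t.1, D.U i

theorem UT_anti {s t : D.Idx} (h : s.1 ⊆ t.1) : D.UT t ≤ D.UT s :=
  le_iInf₂ fun i hi => iInf₂_le i (h hi)

/-- Coordinates. -/
abbrev Crd : Type u := Σ s : D.Idx, Fin (D.N s)

/-- Coordinates visible on an intersection. -/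
abbrev Vs (t : D.Idx) : Type u := {p : D.Crd // p.1.1 ⊆ t.1}

/-- The presentation of an intersection. -/
noncomputable def ev (t : D.Idx) : MvPolynomial (D.Vs t) k →+* Γ(X, D.UT t) :=
  eval₂Hom (sHom x (D.UT t)) fun p =>
    X.presheaf.map (homOfLE (D.UT_anti p.2)).op (D.coord p.1.1 p.1.2)

/-- Inclusion of coordinates. -/
def incl {s t : D.Idx} (h : s.1 ⊆ t.1) (p : D.Vs s) : D.Vs t := ⟨p.1, p.2.trans h⟩

theorem res_sHom {V V' : X.Opens} (h : V' ≤ V) (c : k) :
    X.presheaf.map (homOfLE h).op (sHom x V c) = sHom x V' c := res_res (X := X) _ _ _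

theorem ev_rename {s t : D.Idx} (h : s.1 ⊆ t.1) (r : MvPolynomial (D.Vs s) k) :
    D.ev t (rename (D.incl h) r) = X.presheaf.map (homOfLE (D.UT_anti h)).op (D.ev s r) := by
  induction r using MvPolynomial.induction_on with
  | C c =>
    simp only [ev, rename_C, eval₂Hom_C]
    exact (res_sHom _ _).symm
  | add a b ha hb => simp only [map_add, ha, hb]
  | mul_X a p ha =>
    simp only [map_mul, rename_X, ha]
    congr 1
    simp only [ev, eval₂Hom_X']
    exact (res_res _ _ _).symm

theorem ev_surjective (t : D.Idx) : Function.Surjective (D.ev t) := fun z => by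
  obtain ⟨r, rfl⟩ := D.surj t z
  refine ⟨rename (fun j => (⟨⟨t, j⟩, subset_rfl⟩ : D.Vs t)) r, ?_⟩
  simp only [ev, eval₂Hom_rename]
  congr 1
  refine MvPolynomial.ringHom_ext (fun c => by simp) fun j => ?_
  simp only [eval₂Hom_X', Function.comp_apply]
  exact res_self _ _

theorem fg_ker (t : D.Idx) : ∃ (m : ℕ) (G : Fin m → MvPolynomial (D.Vs t) k),
    Submodule.span (MvPolynomial (D.Vs t) k) (Set.range G) = RingHom.ker (D.ev t) :=
  Submodule.fg_iff_exists_fin_generating_family.1 (IsNoetherian.noetherian _)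

/-- Generators of the relations. -/
abbrev Gen : Type u := Σ s : D.Idx, Fin (D.fg_ker s).choose

/-- The relation. -/
noncomputable def G (a : D.Gen) : MvPolynomial (D.Vs a.1) k := (D.fg_ker a.1).choose_spec.choose a.2

/-- Generators visible on an intersection. -/
abbrev At (t : D.Idx) : Type u := {a : D.Gen // a.1.1 ⊆ t.1}

/-- A visible generator. -/
noncomputable def gAt (t : D.Idx) (a : D.At t) : MvPolynomial (D.Vs t) k := rename (D.incl a.2) (D.G a.1)

theorem ev_G (a : D.Gen) : D.ev a.1 (D.G a) = 0 := by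
  have h : D.G a ∈ RingHom.ker (D.ev a.1) :=
    (D.fg_ker a.1).choose_spec.choose_spec ▸ Submodule.subset_span ⟨a.2, rfl⟩
  exact h

theorem range_lc (t : D.Idx) :
    LinearMap.range (Fintype.linearCombination (MvPolynomial (D.Vs t) k) (D.gAt t)) =
      RingHom.ker (D.ev t) := by
  rw [Fintype.range_linearCombination]
  refine le_antisymm (Submodule.span_le.2 ?_) ?_
  · rintro _ ⟨a, rfl⟩
    change D.ev t (rename _ (D.G a.1)) = 0
    rw [ev_rename, ev_G, map_zero]
  · refine le_trans (D.fg_ker t).choose_spec.choose_spec.ge (Submodule.span_le.2 ?_)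
    rintro _ ⟨j, rfl⟩
    refine Submodule.subset_span ⟨⟨⟨t, j⟩, subset_rfl⟩, ?_⟩
    change rename (D.incl _) (D.G ⟨t, j⟩) = _
    rw [show D.incl (subset_refl t.1) = (id : D.Vs t → D.Vs t) from rfl, rename_id]
    rfl

theorem fg_rel (t : D.Idx) : ∃ (m : ℕ) (r : Fin m → (D.At t → MvPolynomial (D.Vs t) k)),
    Submodule.span (MvPolynomial (D.Vs t) k) (Set.range r) =
      LinearMap.ker (Fintype.linearCombination (MvPolynomial (D.Vs t) k) (D.gAt t)) :=
  Submodule.fg_iff_exists_fin_generating_family.1 (IsNoetherian.noetherian _)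

/-- Relations between visible generators. -/
abbrev Rel : Type u := Σ t : D.Idx, Fin (D.fg_rel t).choose

/-- The coefficients of a relation. -/
noncomputable def rel (b : D.Rel) : D.At b.1 → MvPolynomial (D.Vs b.1) k :=
  (D.fg_rel b.1).choose_spec.choose b.2

/-- Vector fields to linear maps on relations. -/
noncomputable def d₀ : Mat (fun p : D.Crd => D.UT p.1) (fun a : D.Gen => D.UT a.1) where
  J a := D.Vs a.1
  idx _ p := p.1
  le _ p := D.UT_anti p.2
  coef a p := D.ev a.1 (pderiv p (D.G a))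

/-- The relations a linear map satisfies. -/
noncomputable def d₁ : Mat (fun a : D.Gen => D.UT a.1) (fun b : D.Rel => D.UT b.1) where
  J b := D.At b.1
  idx _ a := a.1
  le _ a := D.UT_anti a.2
  coef b a := D.ev b.1 (D.rel b a)

/-- The presentation over `W`. -/
noncomputable def evW (W : X.Opens) (t : D.Idx) : MvPolynomial (D.Vs t) k →+* Γ(X, W ⊓ D.UT t) :=
  (X.presheaf.map (homOfLE (inf_le_right : W ⊓ D.UT t ≤ D.UT t)).op).hom.comp (D.ev t)

/-- The visible part of a vector field. -/
noncomputable def fieldAt (W : X.Opens) (v : Sect (fun p : D.Crd => D.UT p.1) W) (t : D.Idx) :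
    D.Vs t → Γ(X, W ⊓ D.UT t) :=
  fun p => X.presheaf.map (homOfLE (inf_le_inf_left W (D.UT_anti p.2))).op (v p.1)

theorem evW_rename (W : X.Opens) {s t : D.Idx} (h : s.1 ⊆ t.1) (r : MvPolynomial (D.Vs s) k) :
    D.evW W t (rename (D.incl h) r) =
      X.presheaf.map (homOfLE (inf_le_inf_left W (D.UT_anti h))).op (D.evW W s r) := by
  simp only [evW, RingHom.comp_apply, ev_rename]
  exact (res_res _ _ _).trans (res_res _ _ _).symm

theorem d₀_sect (W : X.Opens) (v : Sect (fun p : D.Crd => D.UT p.1) W) (a : D.Gen) :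
    D.d₀.sect W v a = dv (D.evW W a.1) (D.fieldAt W v a.1) (D.G a) := rfl

theorem dv_gAt (W : X.Opens) (v : Sect (fun p : D.Crd => D.UT p.1) W) (t : D.Idx) (a : D.At t) :
    dv (D.evW W t) (D.fieldAt W v t) (D.gAt t a) =
      X.presheaf.map (homOfLE (inf_le_inf_left W (D.UT_anti a.2))).op (D.d₀.sect W v a.1) := by
  rw [d₀_sect, gAt, dv_rename]
  refine Eq.trans ?_ (map_dv (X.presheaf.map (homOfLE (inf_le_inf_left W (D.UT_anti a.2))).op).hom _).symm
  congr 1
  · exact RingHom.ext fun r => D.evW_rename W a.2 r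
  · exact funext fun p => (res_res _ _ _).symm

theorem evW_gAt (W : X.Opens) (t : D.Idx) (a : D.At t) : D.evW W t (D.gAt t a) = 0 := by
  rw [evW, RingHom.comp_apply, gAt, ev_rename, ev_G, map_zero, map_zero]

theorem dv_lc (W : X.Opens) (v : Sect (fun p : D.Crd => D.UT p.1) W) (t : D.Idx)
    (c : D.At t → MvPolynomial (D.Vs t) k) :
    dv (D.evW W t) (D.fieldAt W v t) (Fintype.linearCombination (MvPolynomial (D.Vs t) k) (D.gAt t) c) =
      ∑ a, D.evW W t (c a) * X.presheaf.map (homOfLE (inf_le_inf_left W (D.UT_anti a.2))).op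
        (D.d₀.sect W v a.1) := by
  rw [Fintype.linearCombination_apply]
  let δ : MvPolynomial (D.Vs t) k →+ Γ(X, W ⊓ D.UT t) :=
    AddMonoidHom.mk' (dv (D.evW W t) (D.fieldAt W v t)) (dv_add _ _)
  change δ (∑ a, c a • D.gAt t a) = _
  rw [map_sum]
  refine Finset.sum_congr rfl fun a _ => ?_
  change dv _ _ (c a * D.gAt t a) = _
  rw [dv_mul, evW_gAt, zero_mul, add_zero, dv_gAt]

theorem d₁_d₀ (W : X.Opens) (v : Sect (fun p : D.Crd => D.UT p.1) W) :
    D.d₁.sect W (D.d₀.sect W v) = 0 := funext fun b => by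
  have h : Fintype.linearCombination (MvPolynomial (D.Vs b.1) k) (D.gAt b.1) (D.rel b) = 0 :=
    LinearMap.mem_ker.1 ((D.fg_rel b.1).choose_spec.choose_spec ▸ Submodule.subset_span ⟨b.2, rfl⟩)
  refine (D.dv_lc W v b.1 (D.rel b)).symm.trans ?_
  rw [h]
  change dv _ _ 0 = 0
  simp [dv]

/-- The value of a family on a combination of generators. -/
noncomputable def lcVal (W : X.Opens) (φ : Sect (fun a : D.Gen => D.UT a.1) W) (t : D.Idx)
    (c : D.At t → MvPolynomial (D.Vs t) k) : Γ(X, W ⊓ D.UT t) :=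
  ∑ a, D.evW W t (c a) * X.presheaf.map (homOfLE (inf_le_inf_left W (D.UT_anti a.2))).op (φ a.1)

theorem lcVal_add (W : X.Opens) (φ : Sect (fun a : D.Gen => D.UT a.1) W) (t : D.Idx)
    (c c' : D.At t → MvPolynomial (D.Vs t) k) :
    D.lcVal W φ t (c + c') = D.lcVal W φ t c + D.lcVal W φ t c' := by
  simp only [lcVal, Pi.add_apply, map_add, add_mul, Finset.sum_add_distrib]

theorem lcVal_smul (W : X.Opens) (φ : Sect (fun a : D.Gen => D.UT a.1) W) (t : D.Idx)
    (p : MvPolynomial (D.Vs t) k) (c : D.At t → MvPolynomial (D.Vs t) k) :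
    D.lcVal W φ t (p • c) = D.evW W t p * D.lcVal W φ t c := by
  simp only [lcVal, Pi.smul_apply, smul_eq_mul, map_mul, Finset.mul_sum]
  exact Finset.sum_congr rfl fun a _ => by ring

theorem lcVal_eq_zero (W : X.Opens) {φ : Sect (fun a : D.Gen => D.UT a.1) W}
    (hφ : D.d₁.sect W φ = 0) (t : D.Idx) {c : D.At t → MvPolynomial (D.Vs t) k}
    (hc : Fintype.linearCombination (MvPolynomial (D.Vs t) k) (D.gAt t) c = 0) :
    D.lcVal W φ t c = 0 := by
  rw [← LinearMap.mem_ker, ← (D.fg_rel t).choose_spec.choose_spec] at hc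
  induction hc using Submodule.span_induction with
  | mem c h =>
    obtain ⟨j, rfl⟩ := h
    exact congrFun hφ ⟨t, j⟩
  | zero => simp [lcVal]
  | add c c' _ _ h h' => rw [lcVal_add, h, h', add_zero]
  | smul p c _ h => rw [lcVal_smul, h, mul_zero]

/-! ### Local finiteness -/

theorem res_injective {A B : X.Opens} (h : B ≤ A) (h' : A ≤ B) :
    Function.Injective (X.presheaf.map (homOfLE h).op) := fun y z e => by
  rw [← res_self (le_refl A) y, ← res_self (le_refl A) z, ← res_res h h', e, res_res]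

theorem res_surjective {A B : X.Opens} (h : B ≤ A) (h' : A ≤ B) :
    Function.Surjective (X.presheaf.map (homOfLE h).op) := fun y =>
  ⟨X.presheaf.map (homOfLE h').op y, (res_res _ _ _).trans (res_self _ _)⟩

theorem etale_res {A B : X.Opens} (hA : IsAffineOpen A) (hB : IsAffineOpen B) (h : B ≤ A) :
    (X.presheaf.map (homOfLE h).op).hom.Etale := by
  have h1 := Scheme.Hom.etale_appLE (𝟙 X) hA hB h
  exact h1

section loc

variable (l : D.ι)

/-- The singleton. -/
abbrev single : D.Idx := ⟨{l}, Finset.singleton_nonempty l⟩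

/-- Adjoin `l`. -/
abbrev adj (s : D.Idx) : D.Idx := ⟨insert l s.1, Finset.insert_nonempty _ _⟩

theorem UT_single : D.UT (D.single l) = D.U l := by
  change (⨅ i ∈ ({l} : Finset D.ι), D.U i) = _
  exact Finset.iInf_singleton l D.U

theorem le_W {t : D.Idx} (h : l ∈ t.1) : D.UT t ≤ D.U l := iInf₂_le l h

theorem UT_le_W (t : D.Idx) (h : l ∈ t.1) : D.UT t ≤ D.U l ⊓ D.UT t := le_inf (D.le_W l h) le_rfl

theorem evW_surjective (t : D.Idx) (h : l ∈ t.1) : Function.Surjective (D.evW (D.U l) t) :=
  (res_surjective inf_le_right (D.UT_le_W l t h)).comp (D.ev_surjective t)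

theorem evW_eq_zero_iff (t : D.Idx) (h : l ∈ t.1) (a : MvPolynomial (D.Vs t) k) :
    D.evW (D.U l) t a = 0 ↔
      ∃ c, Fintype.linearCombination (MvPolynomial (D.Vs t) k) (D.gAt t) c = a := by
  rw [← LinearMap.mem_range, range_lc, RingHom.mem_ker]
  exact map_eq_zero_iff _ (res_injective inf_le_right (D.UT_le_W l t h))

theorem affineW (t : D.Idx) : IsAffineOpen (D.U l ⊓ D.UT t) := by
  have h : D.U l ⊓ D.UT t = D.UT (D.adj l t) := by
    change _ = ⨅ i ∈ insert l t.1, D.U i
    rw [Finset.iInf_insert]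
  rw [h]
  exact D.affine _ (Finset.insert_nonempty _ _)

theorem field_eq_zero {s t : D.Idx} (h : s.1 ⊆ t.1) (hl : l ∈ s.1)
    {v : D.Vs s → Γ(X, D.U l ⊓ D.UT t)}
    (hv : ∀ j : D.Vs (D.single l), v (D.incl (s := D.single l) (t := s) (Finset.singleton_subset_iff.2 hl) j) = 0)
    (hk : ∀ a, D.evW (D.U l) s a = 0 →
      dv ((X.presheaf.map (homOfLE (inf_le_inf_left (D.U l) (D.UT_anti h))).op).hom.comp
        (D.evW (D.U l) s)) v a = 0) : v = 0 := by
  letI := (X.presheaf.map (homOfLE (inf_le_inf_left (D.U l)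
    (D.UT_anti (s := D.single l) (t := s) (Finset.singleton_subset_iff.2 hl)))).op).hom.toAlgebra
  haveI : Algebra.Etale Γ(X, D.U l ⊓ D.UT (D.single l)) Γ(X, D.U l ⊓ D.UT s) :=
    etale_res (D.affineW l _) (D.affineW l _) _
  exact field_unique (B := Γ(X, D.U l ⊓ D.UT (D.single l))) (C := Γ(X, D.U l ⊓ D.UT s)) _
    (D.evW_surjective l s hl) (D.evW_surjective l _ (Finset.mem_singleton_self l))
    (fun r => D.evW_rename _ _ r) hv hk

end loc

end Pres

end Groth.Agent.TangentFin
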