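import Groth.Agent.QCohLib.Coherent
import Groth.Agent.QCohLib.Criterion
import Mathlib.AlgebraicGeometry.Morphisms.Affine

/-!
# Products of structure sheaves of opens, and matrices between them
-/

set_option autoImplicit false
set_option linter.unusedSectionVars false
set_option backward.isDefEq.respectTransparency false
universe u

open CategoryTheory CategoryTheory.Limits AlgebraicGeometry TopologicalSpace Opposite

namespace Groth.Agent.TangentFin

variable {X : Scheme.{u}} {α : Type u} (U : α → X.Opens)

theorem res_res {A B C : X.Opens} (h₁ : B ≤ A) (h₂ : C ≤ B) (s : Γ(X, A)) :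
    X.presheaf.map (homOfLE h₂).op (X.presheaf.map (homOfLE h₁).op s) =
      X.presheaf.map (homOfLE (h₂.trans h₁)).op s := by
  rw [← ConcreteCategory.comp_apply, ← Functor.map_comp]
  rfl

theorem res_self {A : X.Opens} (h : A ≤ A) (s : Γ(X, A)) : X.presheaf.map (homOfLE h).op s = s := by
  rw [show (homOfLE h).op = 𝟙 (op A) from rfl, CategoryTheory.Functor.map_id]
  rfl

/-- Sections of the product sheaf. -/
abbrev Sect (W : X.Opens) : Type u := ∀ a, Γ(X, W ⊓ U a)

/-- The underlying abelian presheaf. -/
noncomputable def prodPre : X.Opensᵒᵖ ⥤ Ab.{u} where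
  obj W := AddCommGrpCat.of (Sect U W.unop)
  map {W W'} i := AddCommGrpCat.ofHom
    { toFun := fun x a => X.presheaf.map (homOfLE (inf_le_inf_right (U a) i.unop.le)).op (x a)
      map_zero' := funext fun a => map_zero _
      map_add' := fun x y => funext fun a => map_add _ _ _ }
  map_id W := by
    ext x a
    exact res_self _ _
  map_comp i j := by
    ext x a
    exact (res_res _ _ _).symm

/-- Functions act componentwise. -/
noncomputable instance (W : X.Opensᵒᵖ) : Module (X.ringCatSheaf.obj.obj W) ((prodPre U).obj W) :=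
  letI : ∀ a, Module Γ(X, W.unop) Γ(X, W.unop ⊓ U a) := fun a =>
    Module.compHom _ (X.presheaf.map (homOfLE (inf_le_left : W.unop ⊓ U a ≤ W.unop)).op).hom
  show Module Γ(X, W.unop) (Sect U W.unop) from inferInstance

theorem prodPre_map_smul ⦃W W' : X.Opensᵒᵖ⦄ (i : W ⟶ W') (r : X.ringCatSheaf.obj.obj W)
    (m : (prodPre U).obj W) :
    (prodPre U).map i (r • m) = X.ringCatSheaf.obj.map i r • (prodPre U).map i m :=
  funext fun a => by
    change X.presheaf.map _ (X.presheaf.map _ _ * _) = X.presheaf.map _ (X.presheaf.map i _) * X.presheaf.map _ _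
    rw [map_mul, res_res, show i = (homOfLE i.unop.le).op from rfl, res_res]

theorem isSheaf_prodPre : TopCat.Presheaf.IsSheaf (prodPre U : TopCat.Presheaf Ab.{u} X) := by
  rw [TopCat.Presheaf.isSheaf_iff_isSheafUniqueGluing]
  intro ι W sf hsf
  have key : ∀ a, ∃! x : Γ(X, iSup W ⊓ U a), ∀ i,
      X.presheaf.map (homOfLE (inf_le_inf_right (U a) (le_iSup W i))).op x = sf i a := by
    intro a
    refine TopCat.Sheaf.existsUnique_gluing' X.sheaf (fun i => W i ⊓ U a) (iSup W ⊓ U a)
      (fun i => homOfLE (inf_le_inf_right (U a) (le_iSup W i))) (fun p hp => ?_) (fun i => sf i a) ?_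
    · obtain ⟨i, hi⟩ := Opens.mem_iSup.1 hp.1
      exact Opens.mem_iSup.2 ⟨i, hi, hp.2⟩
    · intro i j
      have h := congrFun (hsf i j) a
      change X.presheaf.map (homOfLE _).op (sf i a) = X.presheaf.map (homOfLE _).op (sf j a)
      have h2 := congrArg (X.presheaf.map (homOfLE (le_inf (le_inf (inf_le_left.trans inf_le_left)
        (inf_le_right.trans inf_le_left)) (inf_le_left.trans inf_le_right) :
          (W i ⊓ U a) ⊓ (W j ⊓ U a) ≤ (W i ⊓ W j) ⊓ U a)).op) h
      change X.presheaf.map _ (X.presheaf.map _ (sf i a)) = X.presheaf.map _ (X.presheaf.map _ (sf j a)) at h2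
      rw [res_res, res_res] at h2
      exact h2
  choose x hx hu using key
  exact ⟨x, fun i => funext fun a => hx a i, fun y hy => funext fun a => hu a (y a) fun i => congrFun (hy i) a⟩

/-- `∏ₐ j_{a*} O_{U a}`. -/
noncomputable def prodMod : X.Modules where
  val := PresheafOfModules.ofPresheaf (prodPre U) (prodPre_map_smul U)
  isSheaf := isSheaf_prodPre U

theorem prodMod_map {W W' : X.Opens} (h : W' ≤ W) (x : Γ(prodMod U, W)) (a : α) :
    ((prodMod U).presheaf.map (homOfLE h).op x : Sect U W') a =
      X.presheaf.map (homOfLE (inf_le_inf_right (U a) h)).op ((x : Sect U W) a) := rfl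

theorem prodMod_smul {W : X.Opens} (r : Γ(X, W)) (x : Γ(prodMod U, W)) (a : α) :
    ((r • x : Γ(prodMod U, W)) : Sect U W) a =
      X.presheaf.map (homOfLE (inf_le_left : W ⊓ U a ≤ W)).op r * (x : Sect U W) a := rfl

theorem isQuasicoherent_prodMod [Finite α] [IsAffineHom (pullback.diagonal (terminal.from X))]
    (hU : ∀ a, IsAffineOpen (U a)) : (prodMod U).IsQuasicoherent := by
  cases nonempty_fintype α
  have hloc : ∀ (V : X.affineOpens) (f : Γ(X, V.1)) (a : α),
      IsAffineOpen (V.1 ⊓ U a) ∧ X.basicOpen f ⊓ U a =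
        X.basicOpen (X.presheaf.map (homOfLE (inf_le_left : V.1 ⊓ U a ≤ V.1)).op f) := fun V f a =>
    ⟨V.2.inf (hU a), by
      rw [Scheme.basicOpen_res, inf_assoc, inf_comm (U a), ← inf_assoc,
        inf_eq_right.2 (X.basicOpen_le f)]⟩
  refine QCohLib.isQuasicoherent_of_sections (fun V f x hx => ?_) (fun V f s => ?_)
  · have h : ∀ a, ∃ n : ℕ, ∀ m ≥ n,
        X.presheaf.map (homOfLE (inf_le_left : V.1 ⊓ U a ≤ V.1)).op f ^ m * (x : Sect U V.1) a = 0 := by
      intro a
      have hx' : X.presheaf.map (homOfLE (inf_le_inf_right (U a) (X.basicOpen_le f))).op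
          ((x : Sect U V.1) a) = 0 := congrFun hx a
      letI := (X.presheaf.map (homOfLE (inf_le_inf_right (U a) (X.basicOpen_le f))).op).hom.toAlgebra
      have := (hloc V f a).1.isLocalization_of_eq_basicOpen _
        (homOfLE (inf_le_inf_right (U a) (X.basicOpen_le f))) (hloc V f a).2
      obtain ⟨⟨_, n, rfl⟩, hn⟩ := (IsLocalization.map_eq_zero_iff
        (Submonoid.powers (X.presheaf.map (homOfLE (inf_le_left : V.1 ⊓ U a ≤ V.1)).op f)) _ _).1 hx'
      refine ⟨n, fun m hm => ?_⟩
      obtain ⟨l, rfl⟩ := Nat.exists_eq_add_of_le hm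
      rw [pow_add, mul_comm (_ ^ n), mul_assoc]
      exact mul_eq_zero_of_right _ hn
    choose n hn using h
    refine ⟨Finset.univ.sup n, show (_ : Sect U V.1) = 0 from funext fun a => ?_⟩
    rw [prodMod_smul, map_pow]
    exact hn a _ (Finset.le_sup (Finset.mem_univ a))
  · have h : ∀ a, ∃ n : ℕ, ∀ m ≥ n, ∃ y : Γ(X, V.1 ⊓ U a),
        X.presheaf.map (homOfLE (inf_le_inf_right (U a) (X.basicOpen_le f))).op y =
          X.presheaf.map (homOfLE (inf_le_left.trans (X.basicOpen_le f) : X.basicOpen f ⊓ U a ≤ V.1)).op f ^ m *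
            (s : Sect U (X.basicOpen f)) a := by
      intro a
      letI := (X.presheaf.map (homOfLE (inf_le_inf_right (U a) (X.basicOpen_le f))).op).hom.toAlgebra
      have := (hloc V f a).1.isLocalization_of_eq_basicOpen _
        (homOfLE (inf_le_inf_right (U a) (X.basicOpen_le f))) (hloc V f a).2
      obtain ⟨⟨y, _, n, rfl⟩, hn⟩ := IsLocalization.surj
        (Submonoid.powers (X.presheaf.map (homOfLE (inf_le_left : V.1 ⊓ U a ≤ V.1)).op f))
        ((s : Sect U (X.basicOpen f)) a)
      refine ⟨n, fun m hm => ?_⟩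
      obtain ⟨l, rfl⟩ := Nat.exists_eq_add_of_le hm
      refine ⟨X.presheaf.map (homOfLE (inf_le_left : V.1 ⊓ U a ≤ V.1)).op f ^ l * y, ?_⟩
      have hn' : (s : Sect U (X.basicOpen f)) a *
          X.presheaf.map (homOfLE (inf_le_inf_right (U a) (X.basicOpen_le f))).op
            (X.presheaf.map (homOfLE (inf_le_left : V.1 ⊓ U a ≤ V.1)).op f ^ n) =
          X.presheaf.map (homOfLE (inf_le_inf_right (U a) (X.basicOpen_le f))).op y := hn
      rw [map_pow, res_res] at hn'
      rw [map_mul, map_pow, res_res, ← hn', pow_add]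
      ring
    choose n hn using h
    choose y hy using fun a => hn a _ (Finset.le_sup (Finset.mem_univ a) : n a ≤ Finset.univ.sup n)
    refine ⟨Finset.univ.sup n, (show Sect U V.1 from y), show (_ : Sect U (X.basicOpen f)) = _ from
      funext fun a => ?_⟩
    rw [prodMod_map, prodMod_smul, map_pow, res_res]
    exact hy a

section mat

variable {β : Type u} {V : β → X.Opens}

/-- A matrix of functions from `U`-indexed to `V`-indexed families. -/
structure Mat (U : α → X.Opens) (V : β → X.Opens) where
  /-- terms of a row -/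
  J : β → Type u
  [fintype : ∀ b, Fintype (J b)]
  /-- their columns -/
  idx : ∀ b, J b → α
  le : ∀ b j, V b ≤ U (idx b j)
  /-- their coefficients -/
  coef : ∀ b, J b → Γ(X, V b)

attribute [instance] Mat.fintype

variable {U} (c : Mat U V)

/-- The map on sections. -/
noncomputable def Mat.sect (W : X.Opens) (x : Sect U W) : Sect V W := fun b =>
  ∑ j, X.presheaf.map (homOfLE (inf_le_right : W ⊓ V b ≤ V b)).op (c.coef b j) *
    X.presheaf.map (homOfLE (inf_le_inf_left W (c.le b j))).op (x (c.idx b j))

theorem Mat.sect_res {W W' : X.Opens} (h : W' ≤ W) (x : Sect U W) (b : β) :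
    X.presheaf.map (homOfLE (inf_le_inf_right (V b) h)).op (c.sect W x b) =
      c.sect W' (fun a => X.presheaf.map (homOfLE (inf_le_inf_right (U a) h)).op (x a)) b := by
  simp only [Mat.sect, map_sum, map_mul, res_res]

/-- The morphism of a matrix. -/
noncomputable def Mat.hom : prodMod U ⟶ prodMod V where
  val := PresheafOfModules.homMk
    { app := fun W => AddCommGrpCat.ofHom
        { toFun := c.sect W.unop
          map_zero' := funext fun b => Finset.sum_eq_zero fun j _ => by
            rw [Pi.zero_apply, map_zero, mul_zero]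
          map_add' := fun (x y : Sect U W.unop) => funext fun b => by
            change _ = c.sect W.unop x b + c.sect W.unop y b
            simp only [Mat.sect, ← Finset.sum_add_distrib]
            refine Finset.sum_congr rfl fun j _ => ?_
            rw [← mul_add, ← map_add]
            rfl }
      naturality := fun W W' i => by
        ext x
        exact funext fun b => (c.sect_res i.unop.le x b).symm }
    fun W r x => funext fun b => by
      change c.sect W.unop (fun a => X.presheaf.map (homOfLE (inf_le_left : W.unop ⊓ U a ≤ W.unop)).op r *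
          (x : Sect U W.unop) a) b =
        X.presheaf.map (homOfLE (inf_le_left : W.unop ⊓ V b ≤ W.unop)).op r * c.sect W.unop x b
      simp only [Mat.sect, Finset.mul_sum, map_mul, res_res]
      exact Finset.sum_congr rfl fun j _ => by ring

theorem Mat.hom_app (W : X.Opens) (x : Γ(prodMod U, W)) :
    (c.hom.app W x : Sect V W) = c.sect W x := rfl

end mat

end Groth.Agent.TangentFin
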