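import Groth.Agent.TangentFin.Lift

/-!
# Lifts satisfying the relations give a retraction
-/

set_option autoImplicit false
set_option linter.unusedSectionVars false
set_option backward.isDefEq.respectTransparency false
universe u

open CategoryTheory CategoryTheory.Limits AlgebraicGeometry TopologicalSpace IsLocalRing ArtFun
open MvPolynomial Groth.Agent.DefGlue

namespace Groth.Agent.TangentFin

theorem fromSpec_comp {S : Scheme.{u}} {R : Type u} [CommRing R] (F : S ⟶ Spec (CommRingCat.of R))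
    {V : S.Opens} (hV : IsAffineOpen V) :
    hV.fromSpec ≫ F = Spec.map (CommRingCat.ofHom (sHom F V)) := by
  rw [← IsAffineOpen.SpecMap_appLE_fromSpec F (isAffineOpen_top (Spec (CommRingCat.of R))) hV le_top,
    IsAffineOpen.fromSpec_top, Scheme.isoSpec_Spec_inv, ← Spec.map_comp]
  rfl

namespace Pres

variable {Λ k : Type u} [CommRing Λ] [Field k] [Algebra Λ k]
variable {X : Scheme.{u}} {x : X ⟶ Spec (CommRingCat.of k)}
variable {A : Art Λ k} (g : Art.base Λ k ⟶ A) {D : Pres x} {ξ : DefSch X x A}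

theorem exists_glue (σ : ∀ t : D.Idx, Γ(X, D.UT t) →+* Γ(ξ.total, img ξ (D.UT t)))
    (hσres : ∀ {s t : D.Idx} (hst : s.1 ⊆ t.1) z,
      σ t (X.presheaf.map (homOfLE (D.UT_anti hst)).op z) =
        ξ.total.presheaf.map (homOfLE (img_mono ξ (D.UT_anti hst))).op (σ s z)) :
    ∃ ρ : ξ.total ⟶ X, ∀ i : D.ι, (isAffineOpen_img ξ (D.affine _ (D.single i).2)).fromSpec ≫ ρ =
      Spec.map (CommRingCat.ofHom (σ (D.single i))) ≫ IsAffineOpen.fromSpec (D.affine _ (D.single i).2) := by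
  have haff : ∀ t : D.Idx, IsAffineOpen (img ξ (D.UT t)) := fun t => isAffineOpen_img ξ (D.affine _ t.2)
  let loc : ∀ t : D.Idx, (img ξ (D.UT t)).toScheme ⟶ X := fun t =>
    (haff t).isoSpec.hom ≫ Spec.map (CommRingCat.ofHom (σ t)) ≫ IsAffineOpen.fromSpec (D.affine _ t.2)
  have hloc : ∀ {s t : D.Idx} (hst : s.1 ⊆ t.1),
      ξ.total.homOfLE (img_mono ξ (D.UT_anti hst)) ≫ loc s = loc t := fun {s t} hst => by
    rw [← cancel_epi (haff t).isoSpec.inv]
    have h1 : (haff t).isoSpec.inv ≫ ξ.total.homOfLE (img_mono ξ (D.UT_anti hst)) ≫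
        (haff s).isoSpec.hom = Spec.map (ξ.total.presheaf.map (homOfLE (img_mono ξ (D.UT_anti hst))).op) := by
      rw [← cancel_mono (haff s).fromSpec, Category.assoc, Category.assoc,
        IsAffineOpen.isoSpec_hom_fromSpec, Scheme.homOfLE_ι, IsAffineOpen.isoSpec_inv_ι]
      exact ((haff s).map_fromSpec (haff t) _).symm
    simp only [loc, Iso.inv_hom_id_assoc]
    rw [reassoc_of% h1,
      ← IsAffineOpen.map_fromSpec (D.affine _ s.2) (D.affine _ t.2) (homOfLE (D.UT_anti hst)).op,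
      ← Category.assoc, ← Category.assoc, ← Spec.map_comp, ← Spec.map_comp]
    congr 2
    ext z
    exact (hσres hst z).symm
  have hcov : IsOpenCover fun i : D.ι => img ξ (D.UT (D.single i)) := by
    refine top_le_iff.1 fun p _ => ?_
    obtain ⟨q, rfl⟩ := DefAut.surjective_i ξ p
    obtain ⟨i, hi⟩ := D.cover q
    exact Opens.mem_iSup.2 ⟨i, q, (D.UT_single i).ge hi, rfl⟩
  let 𝒰 := ξ.total.openCoverOfIsOpenCover _ hcov
  have hagree : ∀ i j : D.ι, pullback.fst (img ξ (D.UT (D.single i))).ι (img ξ (D.UT (D.single j))).ι ≫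
      loc (D.single i) = pullback.snd _ _ ≫ loc (D.single j) := by
    intro i j
    let t : D.Idx := ⟨{i, j}, Finset.insert_nonempty _ _⟩
    have hi : (D.single i).1 ⊆ t.1 := Finset.singleton_subset_iff.2 (Finset.mem_insert_self i _)
    have hj : (D.single j).1 ⊆ t.1 :=
      Finset.singleton_subset_iff.2 (Finset.mem_insert_of_mem (Finset.mem_singleton_self j))
    have heq : img ξ (D.UT (D.single i)) ⊓ img ξ (D.UT (D.single j)) ≤ img ξ (D.UT t) := by
      rintro _ ⟨⟨q, hq, rfl⟩, q', hq', he⟩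
      obtain rfl := ξ.i.isClosedEmbedding.injective he
      have hmem : q' ∈ D.UT t := by
        have h1 : D.UT (D.single i) ⊓ D.UT (D.single j) ≤ D.UT t := le_iInf₂ fun l hl => by
          rcases Finset.mem_insert.1 hl with rfl | hl
          · exact inf_le_left.trans (D.UT_single l).le
          · rw [Finset.mem_singleton.1 hl]
            exact inf_le_right.trans (D.UT_single j).le
        exact h1 ⟨hq, hq'⟩
      exact ⟨q', hmem, rfl⟩
    rw [← cancel_epi (isPullback_opens_inf (img ξ (D.UT (D.single i))) (img ξ (D.UT (D.single j)))).isoPullback.hom,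
      IsPullback.isoPullback_hom_fst_assoc, IsPullback.isoPullback_hom_snd_assoc,
      ← Scheme.homOfLE_homOfLE (X := ξ.total) heq (img_mono ξ (D.UT_anti hi)),
      ← Scheme.homOfLE_homOfLE (X := ξ.total) heq (img_mono ξ (D.UT_anti hj)),
      Category.assoc, Category.assoc, hloc hi, hloc hj]
  let ρ : ξ.total ⟶ X := 𝒰.glueMorphisms (fun i : D.ι => loc (D.single i)) hagree
  refine ⟨ρ, fun i => ?_⟩
  have h1 : (img ξ (D.UT (D.single i))).ι ≫ ρ = loc (D.single i) :=
    Scheme.Cover.ι_glueMorphisms 𝒰 _ _ i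
  rw [← IsAffineOpen.isoSpec_inv_ι, Category.assoc, h1]
  exact Iso.inv_hom_id_assoc _ _

theorem nonempty_over_self [IsProper x] (hx : Flat x) (ι₀ : k →+* A) (hι : ∀ c, A.res (ι₀ c) = c)
    (hg : ∀ c : Art.base Λ k, g c = ι₀ c) (y : D.Lifts ξ)
    (h : ∀ a : D.Gen, lev ι₀ y a.1 (D.G a) = 0) :
    Nonempty (Over g ξ (DefSch.self X x hx)) := by
  have hkill : ∀ t : D.Idx, RingHom.ker (D.ev t) ≤ RingHom.ker (lev ι₀ y t) := fun t => by
    rw [← D.range_lc t]
    rintro _ ⟨c, rfl⟩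
    rw [RingHom.mem_ker, Fintype.linearCombination_apply, map_sum]
    refine Finset.sum_eq_zero fun a _ => ?_
    rw [smul_eq_mul, map_mul, gAt, lev_rename, h, map_zero, mul_zero]
  let σ : ∀ t : D.Idx, Γ(X, D.UT t) →+* Γ(ξ.total, img ξ (D.UT t)) := fun t =>
    (D.ev t).liftOfSurjective (D.ev_surjective t) ⟨_, hkill t⟩
  have hσ : ∀ t r, σ t (D.ev t r) = lev ι₀ y t r := fun t r =>
    RingHom.liftOfSurjective_comp_apply _ (D.ev_surjective t) ⟨_, hkill t⟩ r
  have hσred : ∀ t z, red ξ (D.UT t) (σ t z) = z := fun t z => by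
    obtain ⟨r, rfl⟩ := D.ev_surjective t z
    rw [hσ, red_lev ι₀ hι]
  have hσC : ∀ t c, σ t (sHom x (D.UT t) c) = sHom ξ.f (img ξ (D.UT t)) (ι₀ c) := fun t c => by
    have h1 : D.ev t (MvPolynomial.C c) = sHom x (D.UT t) c := eval₂Hom_C _ _ _
    rw [← h1, hσ]
    exact eval₂Hom_C _ _ _
  have hσres : ∀ {s t : D.Idx} (hst : s.1 ⊆ t.1) z,
      σ t (X.presheaf.map (homOfLE (D.UT_anti hst)).op z) =
        ξ.total.presheaf.map (homOfLE (img_mono ξ (D.UT_anti hst))).op (σ s z) := fun {s t} hst z => by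
    obtain ⟨r, rfl⟩ := D.ev_surjective s z
    rw [← D.ev_rename hst r, hσ s r, hσ t (rename (D.incl hst) r)]
    exact lev_rename ι₀ y hst r
  obtain ⟨ρ, hρ⟩ := exists_glue σ hσres
  have haff : ∀ t : D.Idx, IsAffineOpen (img ξ (D.UT t)) := fun t => isAffineOpen_img ξ (D.affine _ t.2)
  have hmap : ρ ≫ x = ξ.f ≫ Art.specMap g := by
    refine Scheme.Cover.hom_ext (ξ.total.openCoverOfIsOpenCover
      (fun i : D.ι => img ξ (D.UT (D.single i))) (top_le_iff.1 fun p _ => ?_)) _ _ fun i => ?_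
    · obtain ⟨q, rfl⟩ := DefAut.surjective_i ξ p
      obtain ⟨i, hi⟩ := D.cover q
      exact Opens.mem_iSup.2 ⟨i, q, (D.UT_single i).ge hi, rfl⟩
    · change (img ξ (D.UT (D.single i))).ι ≫ ρ ≫ x = (img ξ (D.UT (D.single i))).ι ≫ ξ.f ≫ Art.specMap g
      rw [← cancel_epi (haff (D.single i)).isoSpec.inv, IsAffineOpen.isoSpec_inv_ι_assoc,
        IsAffineOpen.isoSpec_inv_ι_assoc, reassoc_of% (hρ i), fromSpec_comp x,
        reassoc_of% (fromSpec_comp ξ.f (haff (D.single i)))]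
      change Spec.map _ ≫ Spec.map _ = Spec.map _ ≫ Spec.map _
      rw [← Spec.map_comp, ← Spec.map_comp]
      congr 1
      ext c
      change σ _ (sHom x _ c) = sHom ξ.f _ (g c)
      rw [hg]
      exact hσC _ c
  have hi : ξ.i ≫ ρ = 𝟙 X := by
    refine Scheme.Cover.hom_ext (X.openCoverOfIsOpenCover (fun i : D.ι => D.UT (D.single i))
      (top_le_iff.1 fun p _ => ?_)) _ _ fun i => ?_
    · obtain ⟨i, hi⟩ := D.cover p
      exact Opens.mem_iSup.2 ⟨i, (D.UT_single i).ge hi⟩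
    · change (D.UT (D.single i)).ι ≫ ξ.i ≫ ρ = (D.UT (D.single i)).ι ≫ 𝟙 X
      rw [← cancel_epi (IsAffineOpen.isoSpec (D.affine _ (D.single i).2)).inv,
        IsAffineOpen.isoSpec_inv_ι_assoc, IsAffineOpen.isoSpec_inv_ι_assoc, Category.comp_id,
        ← Category.assoc, ← IsAffineOpen.SpecMap_appLE_fromSpec ξ.i (haff (D.single i))
          (D.affine _ (D.single i).2) (preimage_img ξ _).ge, Category.assoc, hρ, ← Category.assoc,
        ← Spec.map_comp]
      conv_rhs => rw [← Category.id_comp (IsAffineOpen.fromSpec _), ← Spec.map_id]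
      congr 2
      ext z
      exact hσred _ z
  exact ⟨⟨ρ, hmap, hi⟩⟩

end Pres

end Groth.Agent.TangentFin
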